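import Cfsg.Agent.Lib.Spor.HeRecog.SixFalse.CentHQuot
import Cfsg.Agent.Lib.Small.Order168
import Cfsg.Agent.Lib.Small.Order360

/-!
# The centraliser of `hN` and a second element of order three
-/

set_option autoImplicit false
set_option linter.unusedSectionVars false
set_option linter.style.haveILetI false
set_option maxRecDepth 100000

namespace CfsgLib.Spor.HeRecog.SixFalse

open Subgroup CfsgLib.Recog.CIT

universe u

theorem factorization_three : (4030387200 : ℕ).factorization 3 = 3 := by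
  haveI : Fact (Nat.Prime 3) := ⟨Nat.prime_three⟩
  rw [Nat.factorization_def _ Nat.prime_three,
    show (4030387200 : ℕ) = 3 ^ 3 * 149273600 by norm_num,
    padicValNat.mul (by norm_num) (by norm_num), padicValNat.prime_pow,
    padicValNat.eq_zero_of_not_dvd (by norm_num)]

/-- In a simple group of order 360 an element of order three has a centraliser of order nine. -/
theorem card_centralizer_three_360 {X : Type*} [Group X] [Finite X] [IsSimpleGroup X]
    (h : Nat.card X = 360) (hcit : CIT X) {x : X} (hx : orderOf x = 3) :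
    ∃ P : Sylow 3 X, (P : Subgroup X) = centralizer ({x} : Set X) := by
  haveI : Fact (Nat.Prime 3) := ⟨Nat.prime_three⟩
  haveI : Fact (Nat.Prime 2) := ⟨Nat.prime_two⟩
  obtain ⟨P, hP⟩ := (IsPGroup.of_card (p := 3) (n := 1)
    (show Nat.card (zpowers x) = 3 ^ 1 by rw [Nat.card_zpowers, hx, pow_one])).exists_le_sylow
  have hxP : x ∈ (P : Subgroup X) := hP (mem_zpowers x)
  obtain ⟨h9, h36⟩ := (Small.card_sylow_three_of_card_360 h).2 P
  haveI : IsMulCommutative (P : Subgroup X) :=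
    IsPGroup.isMulCommutative_of_card_eq_prime_sq (p := 3) (by rw [h9]; norm_num)
  have hle : (P : Subgroup X) ≤ centralizer ({x} : Set X) := fun a ha =>
    mem_centralizer_singleton_iff.2 (congrArg Subtype.val
      (mul_comm' (⟨a, ha⟩ : (P : Subgroup X)) ⟨x, hxP⟩))
  have hN : centralizer ({x} : Set X) ≤ normalizer ((P : Subgroup X) : Set X) := by
    intro c hc
    by_contra hn
    have hne : c • P ≠ P := fun e => hn (Sylow.smul_eq_iff_mem_normalizer.1 e)
    have hxc : x ∈ ((c • P : Sylow 3 X) : Subgroup X) := by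
      have h1 := Subgroup.smul_mem_pointwise_smul x (MulAut.conj c) (P : Subgroup X) hxP
      rw [← Sylow.coe_subgroup_smul] at h1
      rwa [show MulAut.conj c • x = x from by
        show c * x * c⁻¹ = x
        exact mul_inv_eq_iff_eq_mul.2 (mem_centralizer_singleton_iff.1 hc)] at h1
    have := Small.sylow_three_inter_of_card_360 h hne hxc hxP
    rw [this, orderOf_one] at hx
    omega
  refine ⟨P, Subgroup.eq_of_le_of_card_ge hle ?_⟩
  have hd : Nat.card (centralizer ({x} : Set X)) ∣ 36 := h36 ▸ card_dvd_of_le hN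
  have hodd : ¬ 2 ∣ Nat.card (centralizer ({x} : Set X)) := fun hd2 => by
    obtain ⟨⟨t, htC⟩, ht⟩ := exists_prime_orderOf_dvd_card'
      (G := centralizer ({x} : Set X)) 2 hd2
    rw [← Subgroup.orderOf_coe] at ht
    obtain ⟨k, hk⟩ := hcit t ht ⟨x, mem_centralizer_singleton_iff.2
      (mem_centralizer_singleton_iff.1 htC).symm⟩
    have h1 : orderOf x ∣ 2 ^ k := orderOf_dvd_of_pow_eq_one (congrArg Subtype.val hk :)
    rw [hx] at h1
    exact absurd (Nat.prime_three.dvd_of_dvd_pow h1) (by norm_num)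
  rw [h9]
  refine Nat.le_of_dvd (by norm_num) ?_
  exact ((Nat.prime_two.coprime_iff_not_dvd.2 hodd).symm.pow_right 2).dvd_of_dvd_mul_left
    (show _ ∣ 2 ^ 2 * 9 from hd)

variable {G : Type u} [Group G] [Finite G] {z : G} (D : Cen 0 z)

/-- The conclusion on the pair. -/
def PairData (x : G) : Prop :=
  Nat.card (centralizer ({D.val 1, x} : Set G)) = 9 ∨
    (Nat.card (centralizer ({D.val 1, x} : Set G)) = 27 ∧
      (∀ a ∈ centralizer ({D.val 1, x} : Set G), a ^ 3 = 1) ∧
      ∀ y ∈ normalizer (centralizer ({D.val 1, x} : Set G) : Set G),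
        y * D.val 1 * y⁻¹ = D.val 1 ∨ y * D.val 1 * y⁻¹ = (D.val 1)⁻¹)

variable (h : TCls D)
include h

theorem pairData (hG : Nat.card G = 4030387200) {x : G} (hx : orderOf x = 3)
    (hxH : x * D.val 1 = D.val 1 * x) (hxn : x ∉ zpowers (D.val 1)) : PairData D x := by
  haveI : Fact (Nat.Prime 3) := ⟨Nat.prime_three⟩
  haveI : Fact (Nat.Prime 2) := ⟨Nat.prime_two⟩
  haveI := quot_simple D h
  unfold PairData
  obtain ⟨P, hP⟩ : ∃ P, P = centralizer ({D.val 1, x} : Set G) := ⟨_, rfl⟩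
  rw [← hP]
  have hHP : D.val 1 ∈ P := hP ▸ mem_cent_pair.2 ⟨rfl, hxH.symm⟩
  have hxP : x ∈ P := hP ▸ mem_cent_pair.2 ⟨hxH, rfl⟩
  have hPC : P ≤ Cx (D.val 1) := fun a ha => mem_Cx.2 (mem_cent_pair.1 (hP ▸ ha)).1
  obtain ⟨xb, hxb⟩ : ∃ xb : CQ (D.val 1), xb = qm (D.val 1) ⟨x, mem_Cx.2 hxH⟩ := ⟨_, rfl⟩
  have hxbo : orderOf xb = 3 := by
    rw [hxb]
    refine orderOf_eq_prime ?_ fun e => hxn (qm_eq_one.1 e)
    rw [← map_pow, show (⟨x, mem_Cx.2 hxH⟩ : Cx (D.val 1)) ^ 3 = 1 from Subtype.ext (by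
      rw [Subgroup.coe_pow, ← hx, pow_orderOf_eq_one]; rfl), map_one]
  obtain ⟨Pb, hPb⟩ : ∃ Pb, Pb = (P.subgroupOf (Cx (D.val 1))).map (qm (D.val 1)) := ⟨_, rfl⟩
  have hcard : Nat.card Pb * 3 = Nat.card P := by
    rw [hPb, ← orderOf_valH D]
    exact card_map_qm hPC hHP
  have hle : Pb ≤ centralizer ({xb} : Set (CQ (D.val 1))) := by
    rw [hPb]
    rintro _ ⟨a, ha, rfl⟩
    rw [hxb, mem_centralizer_singleton_iff, ← map_mul, ← map_mul]
    exact congrArg _ (Subtype.ext (mem_cent_pair.1 (hP ▸ mem_subgroupOf.1 ha)).2)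
  have h3 : 3 ∣ Nat.card Pb := by
    rw [← hxbo]
    have hmem : xb ∈ Pb := hPb ▸ ⟨_, mem_subgroupOf.2 hxP, hxb.symm⟩
    have := orderOf_dvd_natCard (⟨xb, hmem⟩ : Pb)
    rwa [← Subgroup.orderOf_coe] at this
  rcases card_quot D h hG with hX | hX
  · left
    have h1 := card_dvd_of_le hle
    rw [Small.card_centralizer_orderOf hX (Or.inl rfl) hxbo] at h1
    have := Nat.dvd_antisymm h1 h3
    omega
  obtain ⟨R, hR⟩ := card_centralizer_three_360 hX (cit D h) hxbo
  have hR9 : Nat.card (R : Subgroup (CQ (D.val 1))) = 9 :=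
    ((Small.card_sylow_three_of_card_360 hX).2 R).1
  have h9 := card_dvd_of_le hle
  rw [← hR, hR9] at h9
  obtain ⟨k, hk, hk'⟩ := (Nat.dvd_prime_pow Nat.prime_three).1 (show Nat.card Pb ∣ 3 ^ 2 from h9)
  interval_cases k
  · rw [hk'] at h3; norm_num at h3
  · left; rw [← hcard, hk']; norm_num
  right
  have hPbR : Pb = (R : Subgroup (CQ (D.val 1))) :=
    Subgroup.eq_of_le_of_card_ge (hR ▸ hle) (by rw [hk', hR9]; norm_num)
  have h27 : Nat.card P = 27 := by rw [← hcard, hk']; norm_num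
  haveI hPab : IsMulCommutative P := by
    let φ := QuotientGroup.mk' (center P)
    haveI : IsCyclic (P ⧸ center P) := by
      have hz : Nat.card (center P) % 9 = 0 := by
        have hsub : (zpowers (D.val 1) ⊔ zpowers x).subgroupOf P ≤ center P := by
          intro a ha
          refine mem_center_iff.2 fun b => Subtype.ext ?_
          have hb := mem_cent_pair.1 ((le_of_eq hP) b.2)
          refine (mem_centralizer_singleton_iff.1 (?_ : (a : G) ∈ centralizer ({(b : G)} : Set G))).symm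
          refine sup_le (zpowers_le.2 (mem_centralizer_singleton_iff.2 hb.1.symm))
            (zpowers_le.2 (mem_centralizer_singleton_iff.2 hb.2.symm)) (mem_subgroupOf.1 ha)
        have hd : 3 ∣ Nat.card (center P) := by
          rw [← orderOf_valH D]
          have := orderOf_dvd_natCard (⟨⟨_, hHP⟩, hsub (mem_subgroupOf.2
            (mem_sup_left (mem_zpowers _)))⟩ : center P)
          rwa [← Subgroup.orderOf_coe, ← Subgroup.orderOf_coe] at this
        obtain ⟨j, hj, hj'⟩ := (Nat.dvd_prime_pow Nat.prime_three).1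
          (show Nat.card (center P) ∣ 3 ^ 3 by
            have := card_subgroup_dvd_card (center P)
            rwa [h27] at this)
        have : j ≠ 1 := by
          rintro rfl
          have heq : zpowers (⟨_, hHP⟩ : P) = center P := Subgroup.eq_of_le_of_card_ge
            (zpowers_le.2 (hsub (mem_subgroupOf.2 (mem_sup_left (mem_zpowers _)))))
            (by rw [hj', Nat.card_zpowers, ← Subgroup.orderOf_coe, orderOf_valH]; norm_num)
          have hxz : (⟨x, hxP⟩ : P) ∈ zpowers (⟨_, hHP⟩ : P) :=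
            heq ▸ hsub (mem_subgroupOf.2 (mem_sup_right (mem_zpowers x)))
          obtain ⟨i, hi⟩ := Subgroup.mem_zpowers_iff.1 hxz
          exact hxn ⟨i, by simpa using congrArg Subtype.val hi⟩
        rw [hj'] at hd ⊢
        interval_cases j
        · norm_num at hd
        · exact absurd rfl this
        · norm_num
        · norm_num
      have hm := (center P).card_mul_index
      rw [h27] at hm
      rcases (show (center P).index = 1 ∨ (center P).index = 3 by
        obtain ⟨c, hc⟩ : ∃ c, Nat.card (center P) = 9 * c := ⟨_, (Nat.div_add_mod _ 9).symm.trans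
          (by rw [hz, add_zero])⟩
        rw [hc, mul_assoc] at hm
        have h3' : c * (center P).index = 3 := by omega
        exact (Nat.dvd_prime Nat.prime_three).1 ⟨c, by rw [mul_comm, h3']⟩) with h1 | h1
      · haveI : Subsingleton (P ⧸ center P) :=
          (Nat.card_eq_one_iff_unique.1 (by rwa [← Subgroup.index_eq_card])).1
        infer_instance
      · exact isCyclic_of_prime_card (p := 3) (by rwa [← Subgroup.index_eq_card])
    exact ⟨⟨fun a b => commutative_of_cyclic_center_quotient φ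
      (le_of_eq (QuotientGroup.ker_mk' _)) a b⟩⟩
  have hmemP : ∀ a : Cx (D.val 1), qm (D.val 1) a ∈ Pb → (a : G) ∈ P := by
    intro a ha
    rw [hPb] at ha
    obtain ⟨b, hb, e⟩ := ha
    obtain ⟨i, -, hi⟩ := exists_pow_of_mem (qm_eq_iff.1 e)
    rw [inv_mul_eq_iff_eq_mul] at hi
    rw [hi]
    exact mul_mem (mem_subgroupOf.1 hb) (pow_mem hHP _)
  -- the preimage of the normaliser of the Sylow subgroup
  obtain ⟨NS, hNS⟩ : ∃ NS, NS = ((normalizer (Pb : Set (CQ (D.val 1)))).comap (qm (D.val 1))).map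
    (Cx (D.val 1)).subtype := ⟨_, rfl⟩
  have hNScard : Nat.card NS = 108 := by
    rw [hNS, ← Nat.card_congr (equivMapOfInjective _ _ (subtype_injective _)).toEquiv]
    set M := normalizer (Pb : Set (CQ (D.val 1)))
    have h36 : Nat.card M = 36 := by
      have := ((Small.card_sylow_three_of_card_360 hX).2 R).2
      rwa [← hPbR] at this
    have hi := (M.comap (qm (D.val 1))).card_mul_index
    rw [index_comap_of_surjective _ (qm_surjective _), ← card_CQ (D.val 1), orderOf_valH D,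
      hX] at hi
    have hMi := M.card_mul_index
    rw [hX, h36] at hMi
    have : M.index = 10 := by omega
    rw [this] at hi
    omega
  have hNSmem : ∀ n ∈ NS, n * D.val 1 = D.val 1 * n ∧ ∀ a ∈ P, n * a * n⁻¹ ∈ P := by
    intro n hn
    rw [hNS] at hn
    obtain ⟨c, hc, rfl⟩ := hn
    refine ⟨mem_Cx.1 c.2, fun a ha => ?_⟩
    show ((c * ⟨a, hPC ha⟩ * c⁻¹ : Cx (D.val 1)) : G) ∈ P
    refine hmemP _ ?_
    rw [map_mul, map_mul, map_inv]
    exact (mem_normalizer_iff.1 hc _).1 (hPb ▸ ⟨_, mem_subgroupOf.2 ha, rfl⟩)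
  obtain ⟨T', hT'⟩ := Sylow.exists_subgroup_card_pow_prime 2 (n := 2)
    (show 2 ^ 2 ∣ Nat.card NS by rw [hNScard]; norm_num)
  obtain ⟨T, hT⟩ : ∃ T, T = T'.map NS.subtype := ⟨_, rfl⟩
  have hT4 : Nat.card T = 4 := by
    rw [hT, ← Nat.card_congr (equivMapOfInjective _ _ (subtype_injective _)).toEquiv, hT']
    norm_num
  have hTle : T ≤ NS := hT ▸ map_subtype_le T'
  have hfree : ∀ t ∈ T, ∀ a ∈ P, a ∉ zpowers (D.val 1) → t * a * t⁻¹ = a → t = 1 := by
    intro t ht a ha han e
    have htH := mem_Cx.2 (hNSmem t (hTle ht)).1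
    obtain ⟨ab, hab⟩ : ∃ ab : CQ (D.val 1), ab = qm (D.val 1) ⟨a, hPC ha⟩ := ⟨_, rfl⟩
    have habm : ab ∈ Pb := hPb ▸ ⟨_, mem_subgroupOf.2 ha, hab.symm⟩
    have habne : ab ≠ 1 := fun e1 => han (qm_eq_one.1 (hab ▸ e1))
    obtain ⟨k', habo⟩ : ∃ k', orderOf (ab ^ k') = 3 := by
      have hd : orderOf ab ∣ 3 ^ 2 := by
        have := orderOf_dvd_natCard (⟨ab, habm⟩ : Pb)
        rwa [← Subgroup.orderOf_coe, hk'] at this
      obtain ⟨j, hj, hj'⟩ := (Nat.dvd_prime_pow Nat.prime_three).1 hd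
      interval_cases j
      · exact absurd (orderOf_eq_one_iff.1 (by simpa using hj')) habne
      · exact ⟨1, by rw [pow_one, hj', pow_one]⟩
      · exact ⟨3, by rw [orderOf_pow, hj']; norm_num⟩
    obtain ⟨Q, hQ⟩ := card_centralizer_three_360 hX (cit D h) habo
    have hQ9 := ((Small.card_sylow_three_of_card_360 hX).2 Q).1
    have hRQ : Pb = (Q : Subgroup (CQ (D.val 1))) := by
      refine Subgroup.eq_of_le_of_card_ge ?_ (by rw [hk', hQ9]; norm_num)
      rw [hQ, hPb]
      rintro _ ⟨b, hb, rfl⟩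
      rw [hab, mem_centralizer_singleton_iff]
      refine (Commute.pow_right (show Commute (qm (D.val 1) b) (qm (D.val 1) ⟨a, hPC ha⟩) from ?_) k').eq
      rw [Commute, SemiconjBy, ← map_mul, ← map_mul]
      have hcab := congrArg Subtype.val (mul_comm' (⟨_, mem_subgroupOf.1 hb⟩ : P) ⟨a, ha⟩)
      exact congrArg _ (Subtype.ext hcab)
    have htP : t ∈ P := hmemP ⟨t, htH⟩ (by
      rw [hRQ, hQ, hab, mem_centralizer_singleton_iff]
      refine (Commute.pow_right (show Commute (qm (D.val 1) ⟨t, htH⟩)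
        (qm (D.val 1) ⟨a, hPC ha⟩) from ?_) k').eq
      rw [Commute, SemiconjBy, ← map_mul, ← map_mul]
      exact congrArg _ (Subtype.ext (mul_inv_eq_iff_eq_mul.1 e)))
    have h1 := orderOf_dvd_natCard (⟨t, htP⟩ : P)
    have h2 := orderOf_dvd_natCard (⟨t, ht⟩ : T)
    rw [← Subgroup.orderOf_coe, h27] at h1
    rw [← Subgroup.orderOf_coe, hT4] at h2
    exact orderOf_eq_one_iff.1 (Nat.dvd_one.1 ((show Nat.gcd 27 4 = 1 from rfl) ▸
      Nat.dvd_gcd h1 h2))
  -- the number of points of a `T`-stable set outside `⟨H⟩`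
  have hfour : ∀ A : Set G, (∀ a ∈ A, a ∈ P ∧ a ∉ zpowers (D.val 1)) →
      (∀ t ∈ T, ∀ a ∈ A, t * a * t⁻¹ ∈ A) → 4 ∣ Nat.card A := by
    intro A hA hst
    letI : MulAction T A :=
      { smul := fun t a => ⟨(t : G) * a * (t : G)⁻¹, hst t t.2 a a.2⟩
        one_smul := fun a => Subtype.ext (by
          show ((1 : T) : G) * (a : G) * ((1 : T) : G)⁻¹ = a
          simp)
        mul_smul := fun s t a => Subtype.ext (by
          show ((s * t : T) : G) * (a : G) * ((s * t : T) : G)⁻¹ =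
            (s : G) * ((t : G) * a * (t : G)⁻¹) * (s : G)⁻¹
          rw [Subgroup.coe_mul]
          group) }
    rw [← hT4]
    refine dvd_card_of_free fun a t ht => Subtype.ext ?_
    exact hfree t t.2 a (hA a a.2).1 (hA a a.2).2 (congrArg Subtype.val ht)
  refine ⟨h27, ?_, ?_⟩
  · -- exponent three
    have hcomm : ∀ a ∈ P, ∀ b ∈ P, a * b = b * a := fun a ha b hb =>
      congrArg Subtype.val (mul_comm' (⟨a, ha⟩ : P) ⟨b, hb⟩)
    let W : Subgroup G :=
      { carrier := {a | a ∈ P ∧ a ^ 3 = 1}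
        one_mem' := ⟨one_mem P, one_pow 3⟩
        mul_mem' := fun {a b} ha hb => ⟨mul_mem ha.1 hb.1, by
          rw [(show Commute a b from hcomm a ha.1 b hb.1).mul_pow, ha.2, hb.2, one_mul]⟩
        inv_mem' := fun {a} ha => ⟨inv_mem ha.1, by rw [inv_pow, ha.2, inv_one]⟩ }
    have hWle : W ≤ P := fun a ha => ha.1
    have hHW : zpowers (D.val 1) ≤ W := zpowers_le.2 ⟨hHP, by
      rw [← orderOf_valH D, pow_orderOf_eq_one]⟩
    have h4 := hfour ((W : Set G) \ zpowers (D.val 1)) (fun a ha => ⟨hWle ha.1, ha.2⟩) (by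
      intro t ht a ha
      obtain ⟨hn1, hn2⟩ := hNSmem t (hTle ht)
      refine ⟨⟨hn2 a ha.1.1, by rw [conj_pow, ha.1.2]; group⟩, fun hz => ha.2 ?_⟩
      obtain ⟨i, hi⟩ := Subgroup.mem_zpowers_iff.1 hz
      have hc : Commute t⁻¹ (D.val 1 ^ i) :=
        ((show Commute t (D.val 1) from hn1).inv_left).zpow_right i
      refine ⟨i, show D.val 1 ^ i = a from ?_⟩
      calc D.val 1 ^ i = D.val 1 ^ i * t⁻¹ * t := (inv_mul_cancel_right _ _).symm
        _ = t⁻¹ * D.val 1 ^ i * t := by rw [hc.eq]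
        _ = a := by rw [hi]; group)
    have hdiff : Nat.card ↥((W : Set G) \ zpowers (D.val 1)) + 3 = Nat.card W := by
      have := Set.ncard_sdiff_add_ncard_of_subset
        (show ((zpowers (D.val 1)) : Set G) ⊆ (W : Set G) from hHW) (Set.toFinite _)
      rw [← Nat.card_coe_set_eq, ← Nat.card_coe_set_eq, ← Nat.card_coe_set_eq] at this
      simp only [SetLike.coe_sort_coe] at this
      rwa [Nat.card_zpowers, orderOf_valH] at this
    have h9W : ∃ j, Nat.card W = 3 ^ j ∧ j ≤ 3 := by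
      obtain ⟨j, hj, hj'⟩ := (Nat.dvd_prime_pow Nat.prime_three).1
        (show Nat.card W ∣ 3 ^ 3 by
          have := card_dvd_of_le hWle
          rwa [h27] at this)
      exact ⟨j, hj', hj⟩
    obtain ⟨j, hj, hj3⟩ := h9W
    have hxW : x ∈ W := ⟨hxP, by rw [← hx, pow_orderOf_eq_one]⟩
    have hj2 : 2 ≤ j := by
      by_contra hlt
      have hW3 : zpowers (D.val 1) = W := Subgroup.eq_of_le_of_card_ge hHW (by
        rw [hj, Nat.card_zpowers, orderOf_valH]
        exact le_of_le_of_eq (Nat.pow_le_pow_right (by norm_num) (show j ≤ 1 by omega))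
          (pow_one 3))
      exact hxn (hW3 ▸ hxW)
    interval_cases j
    · rw [hj] at hdiff
      omega
    · intro a ha
      have : W = P := Subgroup.eq_of_le_of_card_ge hWle (by rw [hj, h27]; norm_num)
      exact (this ▸ ha : a ∈ W).2
  -- the orbit of `H` under the normaliser
  intro y hy
  have hCP : centralizer (P : Set G) ≤ P := fun c hc => hP ▸ mem_cent_pair.2
    ⟨(mem_centralizer_iff.1 hc _ hHP).symm, (mem_centralizer_iff.1 hc _ hxP).symm⟩
  have hpre : ∀ q : ℕ, q.Prime → q ∣ Nat.card (normalizer (P : Set G)) → q = 2 ∨ q = 3 := by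
    intro q hq hd
    have hqG := hd.trans (card_subgroup_dvd_card _)
    rw [hG, show (4030387200 : ℕ) = 2 ^ 10 * 3 ^ 3 * 5 ^ 2 * 7 ^ 3 * 17 by norm_num] at hqG
    by_contra hne
    push Not at hne
    have hq' : q = 5 ∨ q = 7 ∨ q = 17 := by
      rcases (Nat.Prime.dvd_mul hq).1 hqG with h1 | h1
      · rcases (Nat.Prime.dvd_mul hq).1 h1 with h1 | h1
        · rcases (Nat.Prime.dvd_mul hq).1 h1 with h1 | h1
          · rcases (Nat.Prime.dvd_mul hq).1 h1 with h1 | h1
            · exact absurd ((Nat.prime_dvd_prime_iff_eq hq Nat.prime_two).1 (hq.dvd_of_dvd_pow h1)) hne.1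
            · exact absurd ((Nat.prime_dvd_prime_iff_eq hq Nat.prime_three).1 (hq.dvd_of_dvd_pow h1)) hne.2
          · exact Or.inl ((Nat.prime_dvd_prime_iff_eq hq Nat.prime_five).1 (hq.dvd_of_dvd_pow h1))
        · exact Or.inr (Or.inl
            ((Nat.prime_dvd_prime_iff_eq hq (by norm_num)).1 (hq.dvd_of_dvd_pow h1)))
      · exact Or.inr (Or.inr ((Nat.prime_dvd_prime_iff_eq hq (by norm_num)).1 h1))
    haveI := Fact.mk hq
    obtain ⟨⟨v, hv⟩, hvo⟩ := exists_prime_orderOf_dvd_card' (G := normalizer (P : Set G)) q hd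
    rw [← Subgroup.orderOf_coe] at hvo
    have hvP := hCP (mem_centralizer_of_norm h27 hq' (hvo ▸ pow_orderOf_eq_one v)
      (mem_normalizer_iff.1 hv))
    have h1 := orderOf_dvd_natCard (⟨v, hvP⟩ : P)
    rw [← Subgroup.orderOf_coe, hvo, h27] at h1
    exact hne.2 ((Nat.prime_dvd_prime_iff_eq hq Nat.prime_three).1
      (hq.dvd_of_dvd_pow (show q ∣ 3 ^ 3 from h1)))
  obtain ⟨O, hO⟩ : ∃ O, O = {a : G | ∃ n ∈ normalizer (P : Set G), n * D.val 1 * n⁻¹ = a} :=
    ⟨_, rfl⟩
  have hOP : O ⊆ P := by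
    rw [hO]
    rintro _ ⟨n, hn, rfl⟩
    exact (mem_normalizer_iff.1 hn _).1 hHP
  have hNS' : (Cx (D.val 1)).subgroupOf (normalizer (P : Set G)) =
      NS.subgroupOf (normalizer (P : Set G)) := by
    ext n
    simp only [mem_subgroupOf]
    refine ⟨fun hn => ?_, fun hn => mem_Cx.2 (hNSmem n hn).1⟩
    rw [hNS]
    refine ⟨⟨(n : G), hn⟩, mem_normalizer_fintype (fun q hq => ?_), rfl⟩
    obtain ⟨a, ha, rfl⟩ : q ∈ (P.subgroupOf (Cx (D.val 1))).map (qm (D.val 1)) := hPb ▸ hq
    show qm (D.val 1) ⟨(n : G), hn⟩ * qm (D.val 1) a * (qm (D.val 1) ⟨(n : G), hn⟩)⁻¹ ∈ Pb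
    rw [← map_inv, ← map_mul, ← map_mul, hPb]
    exact ⟨_, mem_subgroupOf.2 ((mem_normalizer_iff.1 n.2 _).1 (mem_subgroupOf.1 ha)), rfl⟩
  have hNSN : NS ≤ normalizer (P : Set G) := fun n hn =>
    mem_normalizer_fintype fun a ha => (hNSmem n hn).2 a ha
  have horb : Nat.card O * 108 = Nat.card (normalizer (P : Set G)) := by
    letI : MulAction (normalizer (P : Set G)) G :=
      MulAction.compHom G (ConjAct.toConjAct.toMonoidHom.comp (normalizer (P : Set G)).subtype)
    have hsm : ∀ (n : normalizer (P : Set G)) (a : G), n • a = (n : G) * a * (n : G)⁻¹ :=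
      fun n a => rfl
    have horbit : MulAction.orbit (normalizer (P : Set G)) (D.val 1) = O := by
      rw [hO]
      ext a
      exact ⟨fun ⟨n, e⟩ => ⟨n, n.2, (hsm n _).symm.trans e⟩,
        fun ⟨n, hn, e⟩ => ⟨⟨n, hn⟩, (hsm _ _).trans e⟩⟩
    have hstab : MulAction.stabilizer (normalizer (P : Set G)) (D.val 1) =
        (Cx (D.val 1)).subgroupOf (normalizer (P : Set G)) := by
      ext n
      rw [MulAction.mem_stabilizer_iff, hsm, mul_inv_eq_iff_eq_mul, mem_subgroupOf, mem_Cx]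
    have hi := MulAction.index_stabilizer (normalizer (P : Set G)) (D.val 1)
    rw [horbit, hstab, hNS', ← Nat.card_coe_set_eq] at hi
    have hm := (NS.subgroupOf (normalizer (P : Set G))).card_mul_index
    rw [hi, Nat.card_congr (subgroupOfEquivOfLe hNSN).toEquiv, hNScard] at hm
    rw [← hm, mul_comm]
  have h81 : ¬ 3 ∣ Nat.card O := by
    intro hd
    have h1 : 3 ^ 4 ∣ Nat.card G := by
      refine dvd_trans ?_ (card_subgroup_dvd_card (normalizer (P : Set G)))
      rw [← horb]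
      obtain ⟨c, hc⟩ := hd
      exact ⟨4 * c, by rw [hc]; ring⟩
    rw [hG] at h1
    norm_num at h1
  have hO2 : ∃ b, Nat.card O = 2 ^ b := by
    refine ⟨_, Nat.eq_prime_pow_of_unique_prime_dvd (p := 2) ?_ fun {q} hq hd => ?_⟩
    · intro h0
      rw [h0, zero_mul] at horb
      exact Nat.card_pos.ne horb
    · rcases hpre q hq (horb ▸ hd.mul_right 108) with rfl | rfl
      · rfl
      · exact absurd hd h81
  have hinvO : (D.val 1)⁻¹ ∈ O := by
    have htH : D.val 21 * D.val 1 * (D.val 21)⁻¹ = (D.val 1)⁻¹ := by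
      rw [← D.val_cj (by norm_num) (by norm_num), inv_hN, D.val_inv (by norm_num)]
    let PS : Sylow 3 G := Sylow.ofCard P (by rw [h27, hG, factorization_three]; rfl)
    haveI : IsMulCommutative (PS : Subgroup G) := hPab
    obtain ⟨n, hn, e⟩ := Sylow.conj_eq_normalizer_conj_of_mem PS (D.val 1) (D.val 21)⁻¹ hHP (by
      rw [inv_inv, htH]
      exact inv_mem hHP)
    rw [inv_inv, htH] at e
    rw [hO]
    exact ⟨n⁻¹, inv_mem hn, by rw [inv_inv]; exact e.symm⟩
  have hHO : D.val 1 ∈ O := hO ▸ ⟨1, one_mem _, by group⟩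
  have hne : (D.val 1)⁻¹ ≠ D.val 1 := fun e => by
    have h1 : orderOf (D.val 1) ∣ 2 := orderOf_dvd_of_pow_eq_one (by
      rw [_root_.sq]; nth_rw 1 [← e]; exact inv_mul_cancel _)
    rw [orderOf_valH] at h1
    norm_num at h1
  have h4 := hfour (O \ {D.val 1, (D.val 1)⁻¹}) (fun a ha => ⟨hOP ha.1, fun hz => by
      obtain ⟨i, hi, rfl⟩ := exists_pow_of_mem hz
      rw [orderOf_valH] at hi
      obtain ⟨n, -, e⟩ := hO ▸ ha.1
      have h3 : D.val 1 ^ 3 = 1 := by rw [← orderOf_valH D, pow_orderOf_eq_one]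
      interval_cases i
      · rw [pow_zero, mul_inv_eq_one, mul_eq_left] at e
        have := orderOf_valH D
        rw [e, orderOf_one] at this
        omega
      · exact ha.2 (Set.mem_insert_iff.2 (Or.inl (pow_one _)))
      · exact ha.2 (Set.mem_insert_iff.2 (Or.inr (Set.mem_singleton_iff.2
          (eq_inv_of_mul_eq_one_left (by rw [← pow_succ]; exact h3)))))⟩) (by
    intro t ht a ha
    obtain ⟨hn1, -⟩ := hNSmem t (hTle ht)
    have hfix : t * D.val 1 * t⁻¹ = D.val 1 := mul_inv_eq_iff_eq_mul.2 hn1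
    obtain ⟨n, hn, e⟩ := hO ▸ ha.1
    refine ⟨hO ▸ ⟨t * n, mul_mem (hNSN (hTle ht)) hn, by rw [← e]; group⟩, fun hc => ha.2 ?_⟩
    rcases hc with hc | hc
    · exact Or.inl (mul_left_cancel (mul_right_cancel (hc.trans hfix.symm)))
    · refine Or.inr (mul_left_cancel (a := t) (mul_right_cancel (b := t⁻¹) (hc.trans ?_)))
      calc (D.val 1)⁻¹ = (t * D.val 1 * t⁻¹)⁻¹ := by rw [hfix]
        _ = _ := by group)
  have hcount : Nat.card ↥(O \ {D.val 1, (D.val 1)⁻¹}) + 2 = Nat.card O := by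
    have := Set.ncard_sdiff_add_ncard_of_subset
      (show ({D.val 1, (D.val 1)⁻¹} : Set G) ⊆ O from Set.pair_subset hHO hinvO) (Set.toFinite O)
    rwa [Set.ncard_pair hne.symm, ← Nat.card_coe_set_eq, ← Nat.card_coe_set_eq] at this
  obtain ⟨b, hb⟩ := hO2
  have hO2' : Nat.card O = 2 := by
    rcases b with _ | _ | b
    · rw [hb, pow_zero] at hcount; omega
    · rw [hb, pow_one]
    · rw [hb, pow_succ, pow_succ, mul_assoc] at hcount
      omega
  have hzero : IsEmpty ↥(O \ {D.val 1, (D.val 1)⁻¹}) :=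
    (Nat.card_eq_zero.1 (by omega)).resolve_right (not_infinite_iff_finite.2 inferInstance)
  by_contra hc
  push Not at hc
  refine hzero.false ⟨y * D.val 1 * y⁻¹, hO ▸ ⟨y, hy, rfl⟩, fun hm => ?_⟩
  rcases hm with e | e
  exacts [hc.1 e, hc.2 e]

end CfsgLib.Spor.HeRecog.SixFalse
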