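import Cfsg.Agent.Lib.Spor.HeRecog.SixFalse.Lemmas
import Cfsg.Agent.Lib.CharsMore.SCOrder3.Main
import Cfsg.Agent.Lib.SmithTyrer.Reduction
import Cfsg.Agent.Lib.PLocal.PSolvable
import Cfsg.Agent.Lib.Classical.Order

/-!
# The centraliser of an element of order three containing `L₂(7)`

If `ḡ` is self-centralising of order three in `C(h)/⟨h⟩`, or has an elementary centraliser of order
nine on which the normaliser only inverts, then `|C(h)|` divides `9·168`.
-/

set_option autoImplicit false
set_option linter.unusedSectionVars false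
set_option linter.style.haveILetI false

namespace CfsgLib.Spor.HeRecog.SixFalse

open Subgroup CfsgLib.CharsMore.SCOrder3

universe u

/-- A simple subgroup of order 168 in a group with a self-centralising element of order three. -/
theorem card_of_sc {Y : Type*} [Group Y] [Finite Y] {x : Y} (hx : SC x) (M : Subgroup Y)
    (hM : IsSimpleGroup M) (h168 : Nat.card M = 168) : Nat.card Y = 168 := by
  haveI := hM
  have hbot : ∀ (N : Subgroup Y) [N.Normal], N.subgroupOf M = ⊥ → 168 ≤ Nat.card (Y ⧸ N) := by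
    intro N _ hN
    rw [← h168]
    refine Nat.card_le_card_of_injective ((QuotientGroup.mk' N).comp M.subtype)
      ((injective_iff_map_eq_one _).2 fun m hm => ?_)
    exact Subgroup.mem_bot.1 (hN ▸ mem_subgroupOf.2 ((QuotientGroup.eq_one_iff _).1 hm))
  have hnc : ¬ IsMulCommutative M := fun h => by
    haveI := h
    letI : CommGroup M := { mul_comm := mul_comm' }
    have := IsSimpleGroup.prime_card (α := M)
    rw [h168] at this
    norm_num at this
  rcases hx.classification with ⟨N, hN, hnil, -, hq⟩ | ⟨N, hN, hab, -, ⟨e⟩⟩ | ⟨⟨e⟩⟩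
  · exfalso
    rcases IsSimpleGroup.eq_bot_or_eq_top_of_normal (N.subgroupOf M) inferInstance with h0 | h1
    · have := hbot N h0
      rcases hq with h3 | ⟨⟨e⟩⟩
      · omega
      · rw [Nat.card_congr e.toEquiv, Nat.card_perm, Nat.card_fin] at this
        norm_num [Nat.factorial] at this
    · have hle : M ≤ N := subgroupOf_eq_top.1 h1
      haveI : Group.IsNilpotent M :=
        (Group.isNilpotent_congr (subgroupOfEquivOfLe hle)).1 inferInstance
      haveI : Nontrivial M := Finite.one_lt_card_iff_nontrivial.1 (by omega)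
      rcases IsSimpleGroup.eq_bot_or_eq_top_of_normal (center M) inferInstance with h0 | h2
      · exact (Group.IsNilpotent.center_ne_bot (G := M)) h0
      · exact hnc ⟨⟨fun a b => (mem_center_iff.1 (h2 ▸ mem_top a : a ∈ center M) b).symm⟩⟩
  · exfalso
    rcases IsSimpleGroup.eq_bot_or_eq_top_of_normal (N.subgroupOf M) inferInstance with h0 | h1
    · have := hbot N h0
      rw [Nat.card_congr e.toEquiv, nat_card_alternatingGroup, Nat.card_fin] at this
      norm_num [Nat.factorial] at this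
    · have hle : M ≤ N := subgroupOf_eq_top.1 h1
      haveI := hab
      exact hnc ⟨⟨fun a b => Subtype.ext
        (congrArg Subtype.val (mul_comm' (⟨a, hle a.2⟩ : N) ⟨b, hle b.2⟩) :)⟩⟩
  · haveI : Fact (Nat.Prime 7) := ⟨by norm_num⟩
    rw [Nat.card_congr e.toEquiv, Classical.card_PSL_two, Nat.card_zmod]
    rfl

/-- A simple group of order 168 is not `3`-solvable. -/
theorem not_pSolvable_168 {M : Type*} [Group M] [Finite M] [IsSimpleGroup M]
    (h : Nat.card M = 168) : ¬ Cfsg.IsPSolvable 3 M := by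
  rintro ⟨n, H, h0, hn, -, hnorm, hstep⟩
  have hex : ∀ j : Fin (n + 1), H j = ⊥ := by
    intro j
    induction j using Fin.induction with
    | zero => exact h0
    | succ i ih =>
      refine ((hnorm i.succ).eq_bot_or_eq_top).resolve_right fun htop => ?_
      rcases hstep i with ⟨m, hm⟩ | hc
      · rw [ih, htop, relIndex_bot_left, Subgroup.card_top, h] at hm
        have h2 : (2 : ℕ) ∣ 3 ^ m := hm ▸ (by norm_num)
        exact absurd (Nat.prime_two.dvd_of_dvd_pow h2) (by norm_num)
      · rw [ih, htop, relIndex_bot_left, Subgroup.card_top, h] at hc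
        norm_num at hc
  have := hex (Fin.last n)
  rw [hn] at this
  have h1 : Nat.card (⊤ : Subgroup M) = 1 := by rw [this, Subgroup.card_bot]
  rw [Subgroup.card_top, h] at h1
  norm_num at h1

/-- The quotient group with an elementary Sylow subgroup of order nine, self-centralised at `x`. -/
theorem card_of_nine {Y : Type u} [Group Y] [Finite Y] {x : Y} (hx : orderOf x = 3) (M : Subgroup Y)
    (hM : IsSimpleGroup M) (h168 : Nat.card M = 168) (hxM : x ∈ M) (P : Sylow 3 Y)
    (hP9 : Nat.card (P : Subgroup Y) = 9) (hexp : ∀ a ∈ (P : Subgroup Y), a ^ 3 = 1)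
    (hPC : (P : Subgroup Y) = centralizer ({x} : Set Y))
    (hN : ∀ n ∈ normalizer ((P : Subgroup Y) : Set Y), n * x * n⁻¹ = x ∨ n * x * n⁻¹ = x⁻¹) :
    Nat.card Y = 504 := by
  haveI : Fact (Nat.Prime 3) := ⟨Nat.prime_three⟩
  haveI := hM
  haveI hcomm : IsMulCommutative (P : Subgroup Y) :=
    IsPGroup.isMulCommutative_of_card_eq_prime_sq (p := 3) (by rw [hP9]; norm_num)
  have hxP : x ∈ (P : Subgroup Y) := by
    rw [hPC]
    exact mem_centralizer_singleton_iff.2 rfl
  have hnc : ¬ IsMulCommutative M := fun h => by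
    haveI := h
    letI : CommGroup M := { mul_comm := mul_comm' }
    have := IsSimpleGroup.prime_card (α := M)
    rw [h168] at this
    norm_num at this
  have hab : ∀ a ∈ (P : Subgroup Y), ∀ b ∈ (P : Subgroup Y), a * b = b * a := fun a ha b hb =>
    congrArg Subtype.val (mul_comm' (⟨a, ha⟩ : (P : Subgroup Y)) ⟨b, hb⟩)
  by_cases hd : ∀ n ∈ normalizer ((P : Subgroup Y) : Set Y), n * x * n⁻¹ = x
  · exfalso
    have hle : normalizer ((P : Subgroup Y) : Set Y) ≤ centralizer ((P : Subgroup Y) : Set Y) :=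
      fun n hn => mem_centralizer_iff.2 fun b hb => hab b hb n (by
        rw [hPC]
        exact mem_centralizer_singleton_iff.2 (mul_inv_eq_iff_eq_mul.1 (hd n hn)))
    set K := (MonoidHom.transferSylow P hle).ker
    have hK := MonoidHom.ker_transferSylow_isComplement' P hle
    rcases IsSimpleGroup.eq_bot_or_eq_top_of_normal (K.subgroupOf M) inferInstance with h0 | h1
    · have h1' : Nat.card M ≤ K.index := by
        rw [Subgroup.index_eq_card]
        refine Nat.card_le_card_of_injective ((QuotientGroup.mk' K).comp M.subtype)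
          ((injective_iff_map_eq_one _).2 fun m hm => ?_)
        exact Subgroup.mem_bot.1 (h0 ▸ mem_subgroupOf.2 ((QuotientGroup.eq_one_iff _).1 hm))
      rw [hK.symm.index_eq_card, hP9, h168] at h1'
      omega
    · have hxK : x ∈ K := subgroupOf_eq_top.1 h1 hxM
      have := hK.disjoint.le_bot (show x ∈ K ⊓ (P : Subgroup Y) from ⟨hxK, hxP⟩)
      rw [Subgroup.mem_bot.1 this, orderOf_one] at hx
      omega
  push Not at hd
  obtain ⟨d, hdN, hdne⟩ := hd
  have hdx : d * x * d⁻¹ = x⁻¹ := (hN d hdN).resolve_left hdne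
  -- every element of the normaliser acts as `1` or as `d`
  have hact : ∀ n ∈ normalizer ((P : Subgroup Y) : Set Y),
      (∀ a ∈ (P : Subgroup Y), n * a * n⁻¹ = a) ∨
        (∀ a ∈ (P : Subgroup Y), n * a * n⁻¹ = d * a * d⁻¹) := by
    intro n hn
    rcases hN n hn with h1 | h1
    · refine Or.inl fun a ha => mul_inv_eq_iff_eq_mul.2 (hab n ?_ a ha)
      rw [hPC]
      exact mem_centralizer_singleton_iff.2 (mul_inv_eq_iff_eq_mul.1 h1)
    · refine Or.inr fun a ha => ?_
      have hm : d⁻¹ * n ∈ (P : Subgroup Y) := by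
        rw [hPC]
        refine mem_centralizer_singleton_iff.2 (mul_inv_eq_iff_eq_mul.1 ?_)
        rw [show d⁻¹ * n * x * (d⁻¹ * n)⁻¹ = d⁻¹ * (n * x * n⁻¹) * d by group, h1, ← hdx]
        group
      rw [show n * a * n⁻¹ = d * ((d⁻¹ * n) * a * (d⁻¹ * n)⁻¹) * d⁻¹ by group,
        mul_inv_eq_iff_eq_mul.2 (hab _ hm a ha)]
  have hd2 : ∀ a ∈ (P : Subgroup Y), d * (d * a * d⁻¹) * d⁻¹ = a := by
    intro a ha
    have hm : d * d ∈ (P : Subgroup Y) := by
      rw [hPC]
      refine mem_centralizer_singleton_iff.2 (mul_inv_eq_iff_eq_mul.1 ?_)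
      rw [show d * d * x * (d * d)⁻¹ = d * (d * x * d⁻¹) * d⁻¹ by group, hdx,
        show d * x⁻¹ * d⁻¹ = (d * x * d⁻¹)⁻¹ by group, hdx, inv_inv]
    rw [show d * (d * a * d⁻¹) * d⁻¹ = (d * d) * a * (d * d)⁻¹ by group]
    exact mul_inv_eq_iff_eq_mul.2 (hab _ hm a ha)
  have hdP : ∀ a ∈ (P : Subgroup Y), d * a * d⁻¹ ∈ (P : Subgroup Y) := fun a ha =>
    (mem_normalizer_iff.1 hdN a).1 ha
  by_cases hinv : ∀ a ∈ (P : Subgroup Y), a * (d * a * d⁻¹) = 1
  · exfalso
    have hS : SmithTyrer.InvHyp P := by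
      refine ⟨hab, fun hc => ?_, ⟨d, fun a ha => eq_inv_of_mul_eq_one_right (hinv a ha)⟩,
        fun n hn => ?_⟩
      · haveI := hc
        obtain ⟨g, hg⟩ := IsCyclic.exists_ofOrder_eq_natCard (α := (P : Subgroup Y))
        have h3 : orderOf g ∣ 3 := orderOf_dvd_of_pow_eq_one (Subtype.ext (hexp g g.2))
        rw [hg, hP9] at h3
        norm_num at h3
      · rcases hact n hn with h1 | h1
        · exact Or.inl (mem_centralizer_iff.2 fun a ha => (mul_inv_eq_iff_eq_mul.1 (h1 a ha)).symm)
        · exact Or.inr fun a ha => (h1 a ha).trans (eq_inv_of_mul_eq_one_right (hinv a ha))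
    exact not_pSolvable_168 h168 (PLocal.isPSolvable_subgroup
      (SmithTyrer.InvHyp.isPSolvable (by norm_num) _ Y P rfl hS) M)
  push Not at hinv
  obtain ⟨a, ha, hane⟩ := hinv
  obtain ⟨c, hc⟩ : ∃ c, c = a * (d * a * d⁻¹) := ⟨_, rfl⟩
  have hcP : c ∈ (P : Subgroup Y) := hc ▸ mul_mem ha (hdP a ha)
  have hcne : c ≠ 1 := hc ▸ hane
  have hdc : d * c * d⁻¹ = c := by
    rw [hc, ← conj_mul, hd2 a ha, hab _ (hdP a ha) a ha]
  have hfix : ∀ n ∈ normalizer ((P : Subgroup Y) : Set Y), n * c * n⁻¹ = c := by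
    intro n hn
    rcases hact n hn with h1 | h1
    exacts [h1 c hcP, (h1 c hcP).trans hdc]
  letI : CommGroup (P : Subgroup Y) := { mul_comm := mul_comm' }
  let τ : Y →* (P : Subgroup Y) := MonoidHom.transfer (MonoidHom.id (P : Subgroup Y))
  have key : ∀ (k : ℕ) (g₀ : Y), g₀⁻¹ * c ^ k * g₀ ∈ (P : Subgroup Y) →
      g₀⁻¹ * c ^ k * g₀ = c ^ k := by
    intro k g₀ hk
    obtain ⟨n, hn, e⟩ := Sylow.conj_eq_normalizer_conj_of_mem P (c ^ k) g₀ (pow_mem hcP k) hk
    rw [e]
    have h1 := hfix n⁻¹ (inv_mem hn)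
    rw [inv_inv] at h1
    conv_rhs => rw [← h1]
    have := conj_pow (i := k) (a := n⁻¹) (b := c)
    rw [inv_inv] at this
    exact this.symm
  have hτc : τ c ≠ 1 := by
    show MonoidHom.transfer (MonoidHom.id (P : Subgroup Y)) c ≠ 1
    rw [MonoidHom.transfer_eq_pow _ c key]
    intro e
    have h1 : c ^ (P : Subgroup Y).index = 1 := congrArg Subtype.val e
    have h3 : orderOf c ∣ 3 := orderOf_dvd_of_pow_eq_one (hexp c hcP)
    have hd' := orderOf_dvd_of_pow_eq_one h1
    have hcop : Nat.Coprime 3 (P : Subgroup Y).index :=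
      Nat.prime_three.coprime_iff_not_dvd.2 P.not_dvd_index
    exact hcne (orderOf_eq_one_iff.1 (Nat.dvd_one.1 (hcop.gcd_eq_one ▸ Nat.dvd_gcd h3 hd')))
  have hMle : M ≤ τ.ker := by
    rcases IsSimpleGroup.eq_bot_or_eq_top_of_normal ((τ.comp M.subtype).ker) inferInstance with
      h0 | h1
    · exact absurd (⟨⟨fun p q => (MonoidHom.ker_eq_bot_iff _).1 h0 (by
        rw [map_mul, map_mul, mul_comm])⟩⟩ : IsMulCommutative M) hnc
    · intro m hm
      exact (h1 ▸ mem_top _ : (⟨m, hm⟩ : M) ∈ (τ.comp M.subtype).ker)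
  have hidx : τ.ker.index = 3 := by
    have h1 : τ.ker.index ∣ 3 ^ 2 := by
      rw [index_ker]
      have := card_subgroup_dvd_card τ.range
      rwa [hP9] at this
    obtain ⟨j, hj, hj'⟩ := (Nat.dvd_prime_pow Nat.prime_three).1 h1
    interval_cases j
    · exfalso
      refine hτc ?_
      have : τ.ker = ⊤ := index_eq_one.1 (by rw [hj', pow_zero])
      exact MonoidHom.mem_ker.1 (this ▸ mem_top c)
    · rw [hj', pow_one]
    · exfalso
      have h27 : 3 ^ 3 ∣ Nat.card Y := by
        rw [← τ.ker.card_mul_index, hj']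
        refine dvd_trans (show 3 ^ 3 ∣ 168 * 3 ^ 2 by norm_num) (Nat.mul_dvd_mul_right ?_ _)
        rw [← h168]
        exact card_dvd_of_le hMle
      have hm := (P : Subgroup Y).card_mul_index
      rw [hP9] at hm
      rw [← hm, show (3 : ℕ) ^ 3 = 9 * 3 by norm_num] at h27
      exact P.not_dvd_index ((Nat.mul_dvd_mul_iff_left (by norm_num)).1 h27)
  have hxK : x ∈ τ.ker := hMle hxM
  have hsc : SC (⟨x, hxK⟩ : τ.ker) := by
    refine ⟨by rw [← Subgroup.orderOf_coe]; exact hx, fun q hq => ?_⟩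
    have hqP : (q : Y) ∈ (P : Subgroup Y) :=
      (le_of_eq hPC.symm) (mem_centralizer_singleton_iff.2 (congrArg Subtype.val hq.eq))
    have hI : Nat.card ↥((P : Subgroup Y) ⊓ τ.ker) ≤ 3 := by
      obtain ⟨j, hj, hj'⟩ := (Nat.dvd_prime_pow Nat.prime_three).1
        (show Nat.card ↥((P : Subgroup Y) ⊓ τ.ker) ∣ 3 ^ 2 by
          have := card_dvd_of_le (inf_le_left : (P : Subgroup Y) ⊓ τ.ker ≤ (P : Subgroup Y))
          rwa [hP9] at this)
      rw [hj']
      interval_cases j
      · norm_num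
      · norm_num
      · exfalso
        have hc' : (P : Subgroup Y) ≤ τ.ker := inf_eq_left.1
          (Subgroup.eq_of_le_of_card_ge inf_le_left (by rw [hj', hP9]; norm_num))
        exact hτc (hc' hcP)
    have hle : zpowers x ≤ (P : Subgroup Y) ⊓ τ.ker := zpowers_le.2 ⟨hxP, hxK⟩
    have heq := Subgroup.eq_of_le_of_card_ge hle (by rw [Nat.card_zpowers, hx]; exact hI)
    obtain ⟨i, hi, e⟩ := exists_pow_of_mem
      ((le_of_eq heq.symm) (Subgroup.mem_inf.2 ⟨hqP, q.2⟩))
    rw [hx] at hi
    interval_cases i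
    · exact Or.inl (Subtype.ext (e.trans (pow_zero x)))
    · exact Or.inr (Or.inl (Subtype.ext (e.trans (pow_one x))))
    · exact Or.inr (Or.inr (Subtype.ext e))
  have hK := card_of_sc hsc (M.subgroupOf τ.ker)
    ((subgroupOfEquivOfLe hMle).isSimpleGroup_congr.2 hM)
    (by rw [Nat.card_congr (subgroupOfEquivOfLe hMle).toEquiv, h168])
  rw [← τ.ker.card_mul_index, hK, hidx]

variable {G : Type u} [Group G] [Finite G]

/-- The centraliser of `h` has order dividing `9·168`. -/
theorem card_Cx_dvd {g h : G} (hg : orderOf g = 3) (hh : orderOf h = 3) (hgh : g * h = h * g)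
    (hmix : ∀ i : ℕ, i = 1 ∨ i = 2 → ¬ IsConj g (g * h ^ i))
    (L : Subgroup G) (hL : IsSimpleGroup L) (h168 : Nat.card L = 168)
    (hLh : ∀ a ∈ L, a * h = h * a) (hgL : g ∈ L)
    (hcase : Nat.card (centralizer ({g, h} : Set G)) = 9 ∨
      (Nat.card (centralizer ({g, h} : Set G)) = 27 ∧ ¬ 81 ∣ Nat.card G ∧
        (∀ a ∈ centralizer ({g, h} : Set G), a ^ 3 = 1) ∧
        ∀ y ∈ normalizer (centralizer ({g, h} : Set G) : Set G),
          y * g * y⁻¹ = g ∨ y * g * y⁻¹ = g⁻¹)) :
    Nat.card (Cx h) ∣ 9 * 168 := by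
  haveI : Fact (Nat.Prime 3) := ⟨Nat.prime_three⟩
  haveI := hL
  have hLle : L ≤ Cx h := fun a ha => mem_Cx.2 (hLh a ha)
  let ψ : L →* CQ h := (qm h).comp (Subgroup.inclusion hLle)
  have hψ : Function.Injective ψ := by
    rcases IsSimpleGroup.eq_bot_or_eq_top_of_normal ψ.ker inferInstance with h0 | h1
    · exact (MonoidHom.ker_eq_bot_iff ψ).1 h0
    · exfalso
      have hle : L ≤ zpowers h := fun a ha =>
        qm_eq_one.1 (show ψ ⟨a, ha⟩ = 1 from MonoidHom.mem_ker.1 (h1 ▸ mem_top _))
      have := card_dvd_of_le hle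
      rw [h168, Nat.card_zpowers, hh] at this
      norm_num at this
  obtain ⟨gC, hgC⟩ : ∃ gC : Cx h, (gC : G) = g := ⟨⟨g, mem_Cx.2 hgh⟩, rfl⟩
  have hM : IsSimpleGroup ψ.range := (MonoidHom.ofInjective hψ).isSimpleGroup_congr.1 hL
  have hM168 : Nat.card ψ.range = 168 := by
    rw [← Nat.card_congr (MonoidHom.ofInjective hψ).toEquiv, h168]
  have hxM : qm h gC ∈ ψ.range := ⟨⟨g, hgL⟩,
    congrArg (qm h) (Subtype.ext hgC.symm : Subgroup.inclusion hLle ⟨g, hgL⟩ = gC)⟩
  have hx : orderOf (qm h gC) = 3 := by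
    rw [show qm h gC = ψ ⟨g, hgL⟩ from congrArg _ (Subtype.ext hgC),
      orderOf_injective ψ hψ, ← Subgroup.orderOf_coe]
    exact hg
  have hlift : ∀ (a : Cx h) (i : ℕ), i < orderOf h →
      (a : G) * gC * (a : G)⁻¹ = gC * h ^ i → (a : G) * gC = gC * a := by
    intro a i hi e
    rw [hh] at hi
    rcases Nat.eq_zero_or_pos i with rfl | hpos
    · rw [pow_zero, mul_one] at e
      exact mul_inv_eq_iff_eq_mul.1 e
    · rw [hgC] at e
      exact absurd (isConj_iff.2 ⟨(a : G), e⟩) (hmix i (by omega))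
  have hcent := card_centralizer_qm hlift
  rw [hgC, hh, show ({h, g} : Set G) = {g, h} from Set.pair_comm h g] at hcent
  have hC := card_CQ h
  rw [hh] at hC
  rcases hcase with h9 | ⟨h27, h81, hexp, horb⟩
  · rw [h9] at hcent
    have hsc : SC (qm h gC) := by
      refine ⟨hx, fun q hq => ?_⟩
      have heq : zpowers (qm h gC) = centralizer ({qm h gC} : Set (CQ h)) :=
        Subgroup.eq_of_le_of_card_ge (zpowers_le.2 (mem_centralizer_singleton_iff.2 rfl))
          (by rw [Nat.card_zpowers, hx]; omega)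
      obtain ⟨i, hi, e⟩ := exists_pow_of_mem
        (heq ▸ (mem_centralizer_singleton_iff.2 hq.eq) : q ∈ zpowers (qm h gC))
      rw [hx] at hi
      interval_cases i
      · exact Or.inl (e.trans (pow_zero _))
      · exact Or.inr (Or.inl (e.trans (pow_one _)))
      · exact Or.inr (Or.inr e)
    have := card_of_sc hsc ψ.range hM hM168
    rw [← hC, this]
    norm_num
  · rw [h27] at hcent
    have hP9 : Nat.card (centralizer ({qm h gC} : Set (CQ h))) = 9 := by omega
    have hfac : (Nat.card (CQ h)).factorization 3 = 2 := by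
      have h2 : 3 ^ 2 ∣ Nat.card (CQ h) := by
        have := card_subgroup_dvd_card (centralizer ({qm h gC} : Set (CQ h)))
        rwa [hP9] at this
      have h3 : ¬ 3 ^ 3 ∣ Nat.card (CQ h) := by
        intro hd
        refine h81 (dvd_trans ?_ (card_subgroup_dvd_card (Cx h)))
        rw [← hC]
        exact Nat.mul_dvd_mul hd (dvd_refl 3)
      rw [Nat.prime_three.pow_dvd_iff_le_factorization Nat.card_pos.ne'] at h2 h3
      omega
    let P : Sylow 3 (CQ h) := Sylow.ofCard (centralizer ({qm h gC} : Set (CQ h)))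
      (by rw [hP9, hfac]; rfl)
    have hmemP : ∀ a : Cx h, qm h a ∈ centralizer ({qm h gC} : Set (CQ h)) →
        (a : G) ∈ centralizer ({g, h} : Set G) := by
      intro a ha
      obtain ⟨i, hi, e⟩ := conj_eq_of_commute (mem_centralizer_singleton_iff.1 ha)
      exact mem_cent_pair.2 ⟨hgC ▸ hlift a i hi e, mem_Cx.1 a.2⟩
    have h504 := card_of_nine hx ψ.range hM hM168 hxM P hP9 (by
        intro q hq
        obtain ⟨a, rfl⟩ := qm_surjective h q
        rw [← map_pow, show a ^ 3 = 1 from Subtype.ext (hexp _ (hmemP a hq)), map_one])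
      rfl (by
        intro n hn
        obtain ⟨a, rfl⟩ := qm_surjective h n
        have haN : (a : G) ∈ normalizer (centralizer ({g, h} : Set G) : Set G) := by
          refine mem_normalizer_fintype fun b hb => ?_
          have hbC : b ∈ Cx h := mem_Cx.2 (mem_cent_pair.1 hb).2
          have h1 : qm h a * qm h ⟨b, hbC⟩ * (qm h a)⁻¹ ∈
              centralizer ({qm h gC} : Set (CQ h)) :=
            (mem_normalizer_iff.1 hn _).1 (mem_centralizer_singleton_iff.2 (by
              rw [← map_mul, ← map_mul]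
              exact congrArg _ (Subtype.ext (show b * (gC : G) = gC * b from
                hgC.symm ▸ (mem_cent_pair.1 hb).1))))
          rw [← map_inv, ← map_mul, ← map_mul] at h1
          exact hmemP _ h1
        rcases horb a haN with h1 | h1
        · left
          rw [← map_inv, ← map_mul, ← map_mul]
          exact congrArg _ (Subtype.ext (show (a : G) * gC * (a : G)⁻¹ = gC by rw [hgC, h1]))
        · right
          rw [← map_inv, ← map_mul, ← map_mul, ← map_inv]
          exact congrArg _ (Subtype.ext (show (a : G) * gC * (a : G)⁻¹ = ((gC : G))⁻¹ by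
            rw [hgC, h1])))
    rw [← hC, h504]

end CfsgLib.Spor.HeRecog.SixFalse
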