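import Cfsg.Agent.Lib.Spor.HeRecog.SixFalse.Lemmas
import Cfsg.Agent.Lib.Spor.HeRecog.Interface
import Cfsg.Agent.Lib.Recog.CIT.Main
import Cfsg.Agent.Lib.Classical.Order

/-!
# The centraliser of the element `hN` of order three

All involutions of `C(H)` are conjugate there to `z`, a Sylow subgroup is dihedral of order eight,
and `C(H)/⟨H⟩` is simple of order 168 or 360.
-/

set_option autoImplicit false
set_option linter.unusedSectionVars false
set_option linter.style.haveILetI false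
set_option maxRecDepth 100000

namespace CfsgLib.Spor.HeRecog.SixFalse

open Subgroup CfsgLib.Recog.CIT

universe u

/-- the centraliser of `hN` in the model -/
def cH : List Nat :=
  [0, 1, 2, 1176, 1177, 1178, 9408, 9409, 9410, 10584, 10585, 10586, 10752, 10753, 10754, 11928,
    11929, 11930, 20160, 20161, 20162, 21336, 21337, 21338]

/-- its Sylow 2-subgroup -/
def s0L : List Nat := [0, 1176, 9408, 10584, 10752, 11928, 20160, 21336]

theorem cH_check : allEls (fun m =>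
    (Nat.beq (mulN 0 m 1) (mulN 0 1 m) == cH.any (Nat.beq m))) = true := by decide +kernel

theorem cH_lt : ∀ m ∈ cH, m < 21504 := by decide +kernel

theorem s0_sub : ∀ m ∈ s0L, m ∈ cH := by decide +kernel

theorem s0_mul : ∀ a ∈ s0L, ∀ b ∈ s0L, mulN 0 a b ∈ s0L := by decide +kernel

theorem s0_inv : ∀ a ∈ s0L, invN 0 a ∈ s0L := by decide +kernel

theorem s0_invol : ∀ m ∈ cH, mulN 0 m m = 0 → m ∈ s0L ∧
    (m = 0 ∨ m = zN ∨ m ∈ clsOf 0 168 ∨ m ∈ clsOf 0 1344) := by decide +kernel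

theorem s0_center : ∀ m ∈ s0L, (∀ b ∈ s0L, mulN 0 m b = mulN 0 b m) → m = 0 ∨ m = zN := by
  decide +kernel

theorem s0_gen : ∀ m ∈ s0L, ∃ a ∈ s0L, ∃ b ∈ s0L,
    mulN 0 a a = 0 ∧ mulN 0 b b = 0 ∧ mulN 0 a b = m := by decide +kernel

theorem s0_noncomm : (1176 ∈ s0L ∧ 9408 ∈ s0L ∧ mulN 0 1176 9408 ≠ mulN 0 9408 1176) ∧
    mulN 0 1176 1176 = 0 ∧ mulN 0 zN 1176 = mulN 0 1176 zN ∧ mulN 0 1176 zN ≠ 0 := by
  decide +kernel

theorem hN_three : powN 0 1 3 = 0 := by decide +kernel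

theorem inv_hN : cjN 0 21 1 = invN 0 1 := by decide +kernel

variable {G : Type u} [Group G] [Finite G] {z : G} (D : Cen 0 z)

/-- The hypothesis on the two classes met by the centraliser of `hN`. -/
structure TCls : Prop where
  t168 : IsConj (D.val 168) z
  t1344 : IsConj (D.val 1344) z

include D

theorem orderOf_valH : orderOf (D.val 1) = 3 := by
  haveI : Fact (Nat.Prime 3) := ⟨Nat.prime_three⟩
  refine orderOf_eq_prime ?_ fun e => absurd (D.val_eq_one (by norm_num) e) (by norm_num)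
  rw [← D.val_pow (by norm_num), hN_three, D.val_zero]

theorem valH_mem {i : ℕ} (hi : i < 21504) :
    (D.val i * D.val 1 = D.val 1 * D.val i) ↔ i ∈ cH := by
  have h := allEls_spec cH_check i hi
  rw [beq_iff_eq] at h
  have hm : cH.any (Nat.beq i) = true ↔ i ∈ cH := by
    rw [List.any_eq_true]
    exact ⟨fun ⟨c, hc, e⟩ => (Nat.eq_of_beq_eq_true e) ▸ hc, fun hc => ⟨i, hc, Nat.beq_refl i⟩⟩
  refine ⟨fun e => hm.1 ?_, fun hmem => ?_⟩
  · rw [← h, D.mul_val_eq hi (by norm_num) e]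
    exact Nat.beq_refl _
  · exact D.val_commute hi (by norm_num) (Nat.eq_of_beq_eq_true (h.trans (hm.2 hmem)))

theorem mem_pair_iff {w : G} :
    w ∈ centralizer ({D.val 1, z} : Set G) ↔ ∃ m ∈ cH, D.val m = w := by
  rw [mem_cent_pair]
  refine ⟨fun ⟨h1, h2⟩ => ?_, ?_⟩
  · obtain ⟨m, hm, rfl⟩ := D.val_surj w h2
    exact ⟨m, (valH_mem D hm).1 h1, rfl⟩
  · rintro ⟨m, hm, rfl⟩
    exact ⟨(valH_mem D (cH_lt m hm)).2 hm, D.val_comm m (cH_lt m hm)⟩

theorem card_pair : Nat.card (centralizer ({D.val 1, z} : Set G)) = 24 := by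
  rw [Nat.card_congr (Equiv.subtypeEquivRight fun w => mem_pair_iff D),
    D.card_image cH_lt (by decide +kernel)]
  rfl

/-- the Sylow 2-subgroup of `C(H, z)` -/
def S0 : Subgroup G where
  carrier := {w | ∃ m ∈ s0L, D.val m = w}
  one_mem' := ⟨0, by decide, D.val_zero⟩
  mul_mem' := by
    rintro _ _ ⟨a, ha, rfl⟩ ⟨b, hb, rfl⟩
    exact ⟨_, s0_mul a ha b hb, D.val_mul a b (cH_lt a (s0_sub a ha)) (cH_lt b (s0_sub b hb))⟩
  inv_mem' := by
    rintro _ ⟨a, ha, rfl⟩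
    exact ⟨_, s0_inv a ha, D.val_inv (cH_lt a (s0_sub a ha))⟩

theorem mem_S0 {w : G} : w ∈ S0 D ↔ ∃ m ∈ s0L, D.val m = w := Iff.rfl

theorem card_S0 : Nat.card (S0 D) = 8 := by
  rw [Nat.card_congr (Equiv.subtypeEquivRight fun w => mem_S0 D),
    D.card_image (fun m hm => cH_lt m (s0_sub m hm)) (by decide +kernel)]
  rfl

theorem S0_le : S0 D ≤ centralizer ({D.val 1, z} : Set G) := by
  rintro _ ⟨m, hm, rfl⟩
  exact (mem_pair_iff D).2 ⟨m, s0_sub m hm, rfl⟩

theorem z_mem_S0 : z ∈ S0 D := ⟨zN, by decide, D.val_z⟩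

theorem S0_isPGroup : IsPGroup 2 (S0 D) := IsPGroup.of_card (n := 3) (by rw [card_S0]; rfl)

theorem invol_S0 {w : G} (hH : w * D.val 1 = D.val 1 * w) (hz : w * z = z * w) (h2 : w * w = 1) :
    w ∈ S0 D := by
  obtain ⟨m, hm, rfl⟩ := (mem_pair_iff D).1 (mem_cent_pair.2 ⟨hH, hz⟩)
  exact ⟨m, (s0_invol m hm (D.val_sq (cH_lt m hm) h2)).1, rfl⟩

theorem eq_z_of_central {w : G} (hw : w ∈ S0 D) (hc : ∀ b ∈ S0 D, w * b = b * w) :
    w = 1 ∨ w = z := by
  obtain ⟨m, hm, rfl⟩ := hw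
  rcases s0_center m hm (fun b hb => D.mul_val_eq (cH_lt m (s0_sub m hm)) (cH_lt b (s0_sub b hb))
    (hc _ ⟨b, hb, rfl⟩)) with rfl | rfl
  · exact Or.inl D.val_zero
  · exact Or.inr D.val_z

/-- `S0` is a Sylow 2-subgroup of `C(H)`. -/
theorem S0_maximal {P : Subgroup G} (hP : IsPGroup 2 P) (hle : S0 D ≤ P)
    (hPH : P ≤ Cx (D.val 1)) : P = S0 D := by
  haveI : Fact (Nat.Prime 2) := ⟨Nat.prime_two⟩
  have hzP : z ∈ P := hle (z_mem_S0 D)
  haveI : Nontrivial P := ⟨⟨z, hzP⟩, 1, fun e => by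
    have := D.ord
    rw [show z = 1 from congrArg Subtype.val e, orderOf_one] at this
    omega⟩
  haveI := hP.center_nontrivial
  obtain ⟨⟨⟨c, hcP⟩, hc⟩, hc2⟩ := exists_prime_orderOf_dvd_card' (G := center P) 2 (by
    obtain ⟨n, hn⟩ := IsPGroup.iff_card.1 (hP.to_subgroup (center P))
    rw [hn]
    exact dvd_pow_self 2 fun h0 => by
      rw [h0, pow_zero] at hn
      exact (Finite.one_lt_card (α := center P)).ne' hn)
  have hc2' : orderOf c = 2 := by
    rw [← Subgroup.orderOf_coe, ← Subgroup.orderOf_coe] at hc2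
    exact hc2
  have hall : ∀ p ∈ P, c * p = p * c := fun p hp =>
    (congrArg Subtype.val (mem_center_iff.1 hc ⟨p, hp⟩)).symm
  have hcS : c ∈ S0 D := invol_S0 D (mem_Cx.1 (hPH hcP)) (hall z hzP)
    (by rw [← pow_two, ← hc2', pow_orderOf_eq_one])
  have hcz : c = z := (eq_z_of_central D hcS fun b hb => hall b (hle hb)).resolve_left fun e => by
    rw [e, orderOf_one] at hc2'
    omega
  have hd : Nat.card P ∣ 24 := by
    rw [← card_pair D]
    refine card_dvd_of_le fun p hp => mem_cent_pair.2 ⟨mem_Cx.1 (hPH hp), ?_⟩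
    rw [← hcz]
    exact (hall p hp).symm
  obtain ⟨n, hn⟩ := IsPGroup.iff_card.1 hP
  refine (Subgroup.eq_of_le_of_card_ge hle ?_).symm
  rw [hn] at hd ⊢
  rw [card_S0]
  have h' : (2 : ℕ) ^ n ∣ 2 ^ 3 :=
    (Nat.Coprime.pow_left n (by norm_num : Nat.Coprime 2 3)).dvd_of_dvd_mul_left
      (show 2 ^ n ∣ 3 * 2 ^ 3 by norm_num; exact hd)
  exact Nat.le_of_dvd (by norm_num) h'

variable (h : TCls D)
include h

/-- Every involution of `C(H)` is conjugate to `z`. -/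
theorem isConj_z {w : G} (hw : orderOf w = 2) (hH : w * D.val 1 = D.val 1 * w) : IsConj w z := by
  haveI : Fact (Nat.Prime 2) := ⟨Nat.prime_two⟩
  have hle : S0 D ≤ Cx (D.val 1) := fun a ha => mem_Cx.2 (mem_cent_pair.1 (S0_le D ha)).1
  let T : Sylow 2 (Cx (D.val 1)) :=
    { toSubgroup := (S0 D).subgroupOf (Cx (D.val 1))
      isPGroup' := (S0_isPGroup D).of_equiv (subgroupOfEquivOfLe hle).symm
      is_maximal' := fun {Q} hQ hSQ => by
        have h1 : S0 D ≤ Q.map (Cx (D.val 1)).subtype := fun a ha =>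
          ⟨⟨a, hle ha⟩, hSQ (mem_subgroupOf.2 ha), rfl⟩
        have h2 := S0_maximal D (hQ.map _) h1 (map_subtype_le Q)
        rw [← h2, subgroupOf, comap_map_eq_self_of_injective (subtype_injective _)] }
  obtain ⟨U, hU⟩ := (IsPGroup.of_card (p := 2) (n := 1)
    (show Nat.card (zpowers (⟨w, mem_Cx.2 hH⟩ : Cx (D.val 1))) = 2 ^ 1 by
      rw [Nat.card_zpowers, ← Subgroup.orderOf_coe, hw, pow_one])).exists_le_sylow
  obtain ⟨c, hc⟩ := MulAction.exists_smul_eq (Cx (D.val 1)) U T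
  have hcw : (c : G) * w * (c : G)⁻¹ ∈ S0 D := by
    have h1 := Subgroup.smul_mem_pointwise_smul (⟨w, mem_Cx.2 hH⟩ : Cx (D.val 1))
      (MulAut.conj c) (U : Subgroup (Cx (D.val 1))) (hU (mem_zpowers _))
    rw [← Sylow.coe_subgroup_smul, hc] at h1
    exact h1
  refine (isConj_iff.2 ⟨(c : G), rfl⟩ : IsConj w ((c : G) * w * (c : G)⁻¹)).trans ?_
  obtain ⟨m, hm, e⟩ := hcw
  have hlt := cH_lt m (s0_sub m hm)
  have hsq : D.val m * D.val m = 1 := by
    rw [e, conj_mul, show w * w = 1 by rw [← pow_two, ← hw, pow_orderOf_eq_one]]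
    group
  rw [← e]
  rcases (s0_invol m (s0_sub m hm) (D.val_sq hlt hsq)).2 with rfl | rfl | hc1 | hc1
  · rw [D.val_zero] at e
    rw [mul_inv_eq_one.1 e.symm |> mul_eq_left.1, orderOf_one] at hw
    omega
  · rw [D.val_z]
  · exact (D.cls_isConj hc1).symm.trans h.t168
  · exact (D.cls_isConj hc1).symm.trans h.t1344

/-- The involutions of `C(H)` are conjugate there to `z`. -/
theorem exists_conj_z {w : G} (hw : orderOf w = 2) (hH : w * D.val 1 = D.val 1 * w) :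
    ∃ n : G, n * D.val 1 = D.val 1 * n ∧ n * w * n⁻¹ = z := by
  haveI : Fact (Nat.Prime 3) := ⟨Nat.prime_three⟩
  obtain ⟨x, hx⟩ := isConj_iff.1 (isConj_z D h hw hH)
  have hxz : (x * D.val 1 * x⁻¹) * z = z * (x * D.val 1 * x⁻¹) := by
    have h1 : (x * D.val 1 * x⁻¹) * (x * w * x⁻¹) = (x * w * x⁻¹) * (x * D.val 1 * x⁻¹) := by
      rw [conj_mul, conj_mul, hH]
    rwa [hx] at h1
  let a : Cx z := ⟨x * D.val 1 * x⁻¹, mem_Cx.2 hxz⟩
  let b : Cx z := ⟨D.val 1, mem_Cx.2 (D.val_comm 1 (by norm_num))⟩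
  have hsyl : ∀ c : Cx z, orderOf (c : G) = 3 →
      Nat.card (zpowers c) = 3 ^ (Nat.card (Cx z)).factorization 3 := by
    intro c hc
    rw [Nat.card_zpowers, ← Subgroup.orderOf_coe, hc, D.card_cent]
    have : (21504 : ℕ).factorization 3 = 1 := by
      rw [Nat.factorization_def _ Nat.prime_three,
        show (21504 : ℕ) = 3 * 7168 by norm_num, padicValNat.mul (by norm_num) (by norm_num),
        padicValNat.self (by norm_num), padicValNat.eq_zero_of_not_dvd (by norm_num)]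
    rw [this, pow_one]
  have hxo : orderOf (x * D.val 1 * x⁻¹) = 3 := by
    rw [show x * D.val 1 * x⁻¹ = MulAut.conj x (D.val 1) from rfl, MulEquiv.orderOf_eq,
      orderOf_valH]
  obtain ⟨c, hc⟩ := MulAction.exists_smul_eq (Cx z) (Sylow.ofCard (zpowers a) (hsyl a hxo))
    (Sylow.ofCard (zpowers b) (hsyl b (orderOf_valH D)))
  have hcb : c * a * c⁻¹ ∈ zpowers b := by
    have := congrArg (fun P : Sylow 3 (Cx z) => (P : Subgroup (Cx z))) hc
    simp only [Sylow.coe_subgroup_smul, Sylow.coe_ofCard] at this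
    rw [← this]
    exact Subgroup.smul_mem_pointwise_smul a (MulAut.conj c) _ (mem_zpowers a)
  obtain ⟨i, hi, e⟩ := exists_pow_of_mem hcb
  rw [← Subgroup.orderOf_coe b] at hi
  rw [show (b : G) = D.val 1 from rfl, orderOf_valH] at hi
  obtain ⟨y, hy⟩ : ∃ y, y = (c : G) * x := ⟨_, rfl⟩
  have hyw : y * w * y⁻¹ = z := by
    rw [hy, show (c : G) * x * w * ((c : G) * x)⁻¹ = c * (x * w * x⁻¹) * (c : G)⁻¹ by group, hx,
      mem_Cx.1 c.2, mul_inv_cancel_right]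
  have hyH : y * D.val 1 * y⁻¹ = D.val 1 ^ i := by
    have e' : ((c * a * c⁻¹ : Cx z) : G) = ((b ^ i : Cx z) : G) := congrArg _ e
    rw [Subgroup.coe_pow] at e'
    rw [hy]
    refine Eq.trans ?_ e'
    show _ = (c : G) * (x * D.val 1 * x⁻¹) * (c : G)⁻¹
    group
  interval_cases i
  · exfalso
    have h3 := orderOf_valH D
    rw [pow_zero, mul_inv_eq_one] at hyH
    rw [mul_eq_left.1 hyH, orderOf_one] at h3
    omega
  · rw [pow_one] at hyH
    exact ⟨y, mul_inv_eq_iff_eq_mul.1 hyH, hyw⟩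
  · obtain ⟨t, ht⟩ : ∃ t, t = D.val 21 := ⟨_, rfl⟩
    have htz : t * z * t⁻¹ = z := by
      rw [ht, D.val_comm 21 (by norm_num), mul_inv_cancel_right]
    have htH : t * D.val 1 * t⁻¹ = (D.val 1)⁻¹ := by
      rw [ht, ← D.val_cj (by norm_num) (by norm_num), inv_hN, D.val_inv (by norm_num)]
    have hH3 : D.val 1 ^ 3 = 1 := by rw [← orderOf_valH D, pow_orderOf_eq_one]
    refine ⟨t * y, ?_, by rw [← htz, ← hyw]; group⟩
    refine mul_inv_eq_iff_eq_mul.1 ?_
    rw [show t * y * D.val 1 * (t * y)⁻¹ = t * (y * D.val 1 * y⁻¹) * t⁻¹ by group, hyH,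
      ← conj_pow, htH, inv_pow]
    exact inv_eq_of_mul_eq_one_right (by rw [← pow_succ]; exact hH3)

theorem card_pair_invol {w : G} (hw : orderOf w = 2) (hH : w * D.val 1 = D.val 1 * w) :
    Nat.card (centralizer ({D.val 1, w} : Set G)) = 24 := by
  obtain ⟨n, hn, hnw⟩ := exists_conj_z D h hw hH
  have hn' : n * D.val 1 * n⁻¹ = D.val 1 := mul_inv_eq_iff_eq_mul.2 hn
  rw [← card_pair D]
  refine Nat.card_congr ((MulAut.conj n).toEquiv.subtypeEquiv fun v => ?_)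
  rw [mem_cent_pair, mem_cent_pair]
  show _ ↔ (n * v * n⁻¹) * D.val 1 = D.val 1 * (n * v * n⁻¹) ∧
    (n * v * n⁻¹) * z = z * (n * v * n⁻¹)
  have h1 : (n * v * n⁻¹) * (n * D.val 1 * n⁻¹) = (n * D.val 1 * n⁻¹) * (n * v * n⁻¹) ↔
      v * D.val 1 = D.val 1 * v := by rw [conj_mul, conj_mul]; simp
  have h2 : (n * v * n⁻¹) * (n * w * n⁻¹) = (n * w * n⁻¹) * (n * v * n⁻¹) ↔
      v * w = w * v := by rw [conj_mul, conj_mul]; simp
  rw [hn'] at h1
  rw [hnw] at h2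
  rw [h1, h2]

/-- The centraliser of an involution of `C(H)/⟨H⟩`. -/
theorem card_cent_qm {w : Cx (D.val 1)} (hw : orderOf (w : G) = 2) :
    Nat.card (centralizer ({qm (D.val 1) w} : Set (CQ (D.val 1)))) = 8 := by
  have hH : (w : G) * D.val 1 = D.val 1 * w := mem_Cx.1 w.2
  have hw2 : (w : G) ^ 2 = 1 := by rw [← hw, pow_orderOf_eq_one]
  have h1 := card_centralizer_qm (x := D.val 1) (b := w) fun a i hi e => by
    have h2 : ((w : G) * D.val 1 ^ i) ^ 2 = 1 := by rw [← e, conj_pow, hw2]; group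
    rw [(show Commute (w : G) (D.val 1 ^ i) from Commute.pow_right hH i).mul_pow, hw2, one_mul,
      ← pow_mul] at h2
    have := orderOf_dvd_of_pow_eq_one h2
    rw [orderOf_valH] at this hi
    have hi0 : i = 0 := by omega
    rw [hi0, pow_zero, mul_one] at e
    exact mul_inv_eq_iff_eq_mul.1 e
  rw [orderOf_valH, card_pair_invol D h hw hH] at h1
  omega

omit h in
theorem exists_lift {q : CQ (D.val 1)} (hq : orderOf q = 2) :
    ∃ w : Cx (D.val 1), orderOf (w : G) = 2 ∧ qm (D.val 1) w = q := by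
  haveI : Fact (Nat.Prime 2) := ⟨Nat.prime_two⟩
  obtain ⟨a, rfl⟩ := qm_surjective (D.val 1) q
  have h2 : qm (D.val 1) a ^ 2 = 1 := by rw [← hq, pow_orderOf_eq_one]
  have h3 : qm (D.val 1) (a ^ 3) = qm (D.val 1) a := by
    rw [map_pow, pow_succ, h2, one_mul]
  refine ⟨a ^ 3, orderOf_eq_prime ?_ fun e => ?_, h3⟩
  · rw [← map_pow] at h2
    obtain ⟨i, hi, e⟩ := exists_pow_of_mem (qm_eq_one.1 h2)
    rw [Subgroup.coe_pow] at e ⊢
    rw [← pow_mul, show 3 * 2 = 2 * 3 by norm_num, pow_mul, e, ← pow_mul, mul_comm, pow_mul,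
      ← orderOf_valH D, pow_orderOf_eq_one, one_pow]
  · rw [show qm (D.val 1) a = 1 from h3 ▸ qm_eq_one.2 (e ▸ one_mem _), orderOf_one] at hq
    omega

theorem invol_cent {q : CQ (D.val 1)} (hq : orderOf q = 2) :
    Nat.card (centralizer ({q} : Set (CQ (D.val 1)))) = 8 := by
  obtain ⟨w, hw, rfl⟩ := exists_lift D hq
  exact card_cent_qm D h hw

theorem cit : CIT (CQ (D.val 1)) := fun _ ht =>
  IsPGroup.of_card (n := 3) (by rw [invol_cent D h ht]; rfl)

theorem invol_isConj {q r : CQ (D.val 1)} (hq : orderOf q = 2) (hr : orderOf r = 2) :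
    IsConj q r := by
  obtain ⟨a, ha, rfl⟩ := exists_lift D hq
  obtain ⟨b, hb, rfl⟩ := exists_lift D hr
  obtain ⟨n, hn, hna⟩ := exists_conj_z D h ha (mem_Cx.1 a.2)
  obtain ⟨m, hm, hmb⟩ := exists_conj_z D h hb (mem_Cx.1 b.2)
  refine MonoidHom.map_isConj (qm (D.val 1))
    (isConj_iff.2 ⟨(⟨m, mem_Cx.2 hm⟩ : Cx (D.val 1))⁻¹ * ⟨n, mem_Cx.2 hn⟩, ?_⟩)
  refine Subtype.ext ?_
  show m⁻¹ * n * (a : G) * (m⁻¹ * n)⁻¹ = b
  rw [show m⁻¹ * n * (a : G) * (m⁻¹ * n)⁻¹ = m⁻¹ * (n * a * n⁻¹) * m by group,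
    hna.trans hmb.symm]
  group

end CfsgLib.Spor.HeRecog.SixFalse
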