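import Cfsg.Agent.Lib.Spor.HeRecog.SixFalse.CentH

/-!
# `C(H)/⟨H⟩` is simple of order 168 or 360
-/

set_option autoImplicit false
set_option linter.unusedSectionVars false
set_option linter.style.haveILetI false
set_option maxRecDepth 100000

namespace CfsgLib.Spor.HeRecog.SixFalse

open Subgroup CfsgLib.Recog.CIT

universe u

/-- An odd normal subgroup is trivial if two commuting involutions and their product have
2-groups as centralisers. -/
theorem odd_normal_eq_bot {Y : Type*} [Group Y] [Finite Y] (hcit : CIT Y) {N : Subgroup Y}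
    [hN : N.Normal] (hodd : Odd (Nat.card N)) {a b : Y} (ha : orderOf a = 2) (hb : orderOf b = 2)
    (hab : orderOf (a * b) = 2) : N = ⊥ := by
  haveI : Fact (Nat.Prime 2) := ⟨Nat.prime_two⟩
  have hzero : ∀ t : Y, orderOf t = 2 → ∀ n ∈ N, t * n * t⁻¹ = n → n = 1 := by
    intro t ht n hn e
    obtain ⟨k, hk⟩ := hcit t ht ⟨n, mem_centralizer_singleton_iff.2
      (mul_inv_eq_iff_eq_mul.1 e).symm⟩
    have h1 : n ^ 2 ^ k = 1 := by simpa using congrArg Subtype.val hk
    have h2 : n ^ Nat.card N = 1 := by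
      have h0 : (⟨n, hn⟩ : N) ^ Nat.card N = 1 := pow_card_eq_one'
      exact congrArg Subtype.val h0
    have h3 := Nat.dvd_gcd (orderOf_dvd_of_pow_eq_one h1) (orderOf_dvd_of_pow_eq_one h2)
    rw [(Nat.Coprime.pow_left k (Nat.coprime_two_left.2 hodd)).gcd_eq_one] at h3
    exact orderOf_eq_one_iff.1 (Nat.dvd_one.1 h3)
  have hinv : ∀ t : Y, orderOf t = 2 → ∀ n ∈ N, t * n * t⁻¹ = n⁻¹ := by
    intro t ht n hn
    let φ : N →* N :=
      { toFun := fun r => ⟨t * r * t⁻¹, hN.conj_mem r r.2 t⟩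
        map_one' := Subtype.ext (show t * ((1 : N) : Y) * t⁻¹ = ((1 : N) : Y) by simp)
        map_mul' := fun r r' => Subtype.ext (conj_mul.symm :
          t * ((r : Y) * r') * t⁻¹ = (t * r * t⁻¹) * (t * r' * t⁻¹)) }
    have hfpf : MonoidHom.FixedPointFree φ := fun r hr =>
      Subtype.ext (hzero t ht r r.2 (congrArg Subtype.val hr))
    have hiv : Function.Involutive φ := fun r => Subtype.ext (by
      show t * (t * r * t⁻¹) * t⁻¹ = r
      rw [show t * (t * (r : Y) * t⁻¹) * t⁻¹ = t ^ 2 * r * (t ^ 2)⁻¹ by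
          rw [_root_.sq, mul_inv_rev]; simp only [mul_assoc],
        show t ^ 2 = 1 by rw [← ht]; exact pow_orderOf_eq_one t, one_mul, inv_one, mul_one])
    exact congrArg Subtype.val (congrFun (hfpf.coe_eq_inv_of_involutive hiv) ⟨n, hn⟩)
  refine (Subgroup.eq_bot_iff_forall _).2 fun n hn => hzero (a * b) hab n hn ?_
  rw [show a * b * n * (a * b)⁻¹ = a * (b * n * b⁻¹) * a⁻¹ by group, hinv b hb n hn,
    hinv a ha _ (inv_mem hn), inv_inv]

variable {G : Type u} [Group G] [Finite G] {z : G} (D : Cen 0 z)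
include D

theorem S0_le_Cx : S0 D ≤ Cx (D.val 1) := fun _ ha =>
  mem_Cx.2 (mem_cent_pair.1 (S0_le D ha)).1

/-- the image of the Sylow 2-subgroup -/
noncomputable def SX : Subgroup (CQ (D.val 1)) :=
  ((S0 D).subgroupOf (Cx (D.val 1))).map (qm (D.val 1))

theorem S0_inj {a : Cx (D.val 1)} (ha : (a : G) ∈ S0 D) (h1 : qm (D.val 1) a = 1) : a = 1 := by
  refine Subtype.ext ?_
  have h3 : orderOf (a : G) ∣ 3 := by
    have := orderOf_dvd_natCard (⟨_, qm_eq_one.1 h1⟩ : zpowers (D.val 1))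
    rwa [Nat.card_zpowers, orderOf_valH, ← Subgroup.orderOf_coe] at this
  have h8 : orderOf (a : G) ∣ 8 := by
    have := orderOf_dvd_natCard (⟨_, ha⟩ : S0 D)
    rwa [card_S0, ← Subgroup.orderOf_coe] at this
  have h5 := Nat.dvd_gcd h3 h8
  exact orderOf_eq_one_iff.1 (Nat.dvd_one.1 (show orderOf (a : G) ∣ 1 from h5))

theorem card_SX : Nat.card (SX D) = 8 := by
  let φ := (qm (D.val 1)).comp ((S0 D).subgroupOf (Cx (D.val 1))).subtype
  have hinj : Function.Injective φ := (injective_iff_map_eq_one φ).2 fun a ha =>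
    Subtype.ext (S0_inj D (mem_subgroupOf.1 a.2) ha)
  have hr : φ.range = SX D := by rw [MonoidHom.range_comp, Subgroup.range_subtype]; rfl
  rw [← hr, ← Nat.card_congr (MonoidHom.ofInjective hinj).toEquiv,
    Nat.card_congr (subgroupOfEquivOfLe (S0_le_Cx D)).toEquiv, card_S0]

theorem SX_isPGroup : IsPGroup 2 (SX D) := IsPGroup.of_card (n := 3) (by rw [card_SX]; rfl)

theorem exists_S0_lift {q : CQ (D.val 1)} (hq : q ∈ SX D) :
    ∃ m ∈ s0L, ∃ a : Cx (D.val 1), (a : G) = D.val m ∧ qm (D.val 1) a = q := by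
  obtain ⟨a, ⟨m, hm, e⟩, rfl⟩ := hq
  exact ⟨m, hm, a, e.symm, rfl⟩

/-- the image of an element of `s0L` -/
noncomputable def im {m : ℕ} (hm : m ∈ s0L) : CQ (D.val 1) :=
  qm (D.val 1) ⟨D.val m, S0_le_Cx D ⟨m, hm, rfl⟩⟩

theorem im_eq_one {m : ℕ} (hm : m ∈ s0L) (h : im D hm = 1) : m = 0 :=
  D.val_eq_one (cH_lt m (s0_sub m hm)) (congrArg Subtype.val (S0_inj D ⟨m, hm, rfl⟩ h) :)

theorem im_mul {a b : ℕ} (ha : a ∈ s0L) (hb : b ∈ s0L) :
    im D ha * im D hb = im D (s0_mul a ha b hb) := by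
  rw [im, im, ← map_mul, im]
  exact congrArg _ (Subtype.ext
    (D.val_mul a b (cH_lt a (s0_sub a ha)) (cH_lt b (s0_sub b hb))).symm)

theorem im_congr {a b : ℕ} (ha : a ∈ s0L) (hb : b ∈ s0L) (e : a = b) : im D ha = im D hb := by
  subst e; rfl

theorem im_inj {a b : ℕ} (ha : a ∈ s0L) (hb : b ∈ s0L) (e : im D ha = im D hb) : a = b := by
  have h1 := cH_lt a (s0_sub a ha)
  have h2 := cH_lt b (s0_sub b hb)
  have hmem : ((⟨D.val a, S0_le_Cx D ⟨a, ha, rfl⟩⟩⁻¹ * ⟨D.val b, S0_le_Cx D ⟨b, hb, rfl⟩⟩ :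
      Cx (D.val 1)) : G) ∈ S0 D := mul_mem (inv_mem ⟨a, ha, rfl⟩) ⟨b, hb, rfl⟩
  have h3 := congrArg Subtype.val (S0_inj D hmem (by rw [map_mul, map_inv]; exact inv_mul_eq_one.2 e))
  exact D.val_inj a b h1 h2 (inv_mul_eq_one.1 h3)

theorem im_invol {m : ℕ} (hm : m ∈ s0L) (h : mulN 0 m m = 0) (h0 : m ≠ 0) :
    orderOf (im D hm) = 2 := by
  haveI : Fact (Nat.Prime 2) := ⟨Nat.prime_two⟩
  refine orderOf_eq_prime ?_ fun e => h0 (im_eq_one D hm e)
  rw [_root_.sq, im_mul, im_congr D _ (show 0 ∈ s0L by decide) h]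
  exact (congrArg (qm (D.val 1)) (Subtype.ext D.val_zero :
    (⟨D.val 0, S0_le_Cx D ⟨0, by decide, rfl⟩⟩ : Cx (D.val 1)) = 1)).trans (map_one _)

variable (h : TCls D)
include h

theorem card_two_group_le {P : Subgroup (CQ (D.val 1))} (hP : IsPGroup 2 P) :
    Nat.card P ≤ 8 := by
  haveI : Fact (Nat.Prime 2) := ⟨Nat.prime_two⟩
  rcases subsingleton_or_nontrivial P with hs | hn
  · have := Nat.card_of_subsingleton (1 : P)
    omega
  haveI := hP.center_nontrivial
  obtain ⟨⟨c, hc⟩, hc2⟩ := exists_prime_orderOf_dvd_card' (G := center P) 2 (by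
    obtain ⟨n, hn⟩ := IsPGroup.iff_card.1 (hP.to_subgroup (center P))
    rw [hn]
    exact dvd_pow_self 2 fun h0 => by
      rw [h0, pow_zero] at hn
      exact (Finite.one_lt_card (α := center P)).ne' hn)
  rw [← Subgroup.orderOf_coe, ← Subgroup.orderOf_coe] at hc2
  rw [← invol_cent D h hc2]
  exact Nat.le_of_dvd Nat.card_pos (card_dvd_of_le fun p hp =>
    mem_centralizer_singleton_iff.2 (congrArg Subtype.val (mem_center_iff.1 hc ⟨p, hp⟩)))

/-- the image of `S0` as a Sylow subgroup -/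
noncomputable def sylX : Sylow 2 (CQ (D.val 1)) :=
  { toSubgroup := SX D
    isPGroup' := SX_isPGroup D
    is_maximal' := fun {Q} hQ hle => (Subgroup.eq_of_le_of_card_ge hle (by
      rw [card_SX D]; exact card_two_group_le D h hQ)).symm }

theorem quot_simple : IsSimpleGroup (CQ (D.val 1)) := by
  haveI : Fact (Nat.Prime 2) := ⟨Nat.prime_two⟩
  obtain ⟨⟨h1, h9, -⟩, h11, h12, h13⟩ := s0_noncomm
  have hz : zN ∈ s0L := by decide
  have hz2 : mulN 0 zN zN = 0 := by decide +kernel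
  haveI : Nontrivial (CQ (D.val 1)) := ⟨im D hz, 1, fun e => absurd (im_eq_one D hz e) (by decide)⟩
  refine ⟨fun N hN => (eq_or_ne N ⊥).imp id fun hne => ?_⟩
  have heven : 2 ∣ Nat.card N := by
    by_contra hodd
    have hp : mulN 0 1176 zN ≠ 0 ∧
        mulN 0 (mulN 0 1176 zN) (mulN 0 1176 zN) = 0 := by decide +kernel
    refine hne (odd_normal_eq_bot (cit D h) (Nat.odd_iff.2 (by omega))
      (im_invol D h1 h11 (by decide)) (im_invol D hz hz2 (by decide)) ?_)
    rw [im_mul]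
    exact im_invol D _ hp.2 hp.1
  obtain ⟨⟨t, htN⟩, ht⟩ := exists_prime_orderOf_dvd_card' (G := N) 2 heven
  rw [← Subgroup.orderOf_coe] at ht
  have hall : ∀ q, orderOf q = 2 → q ∈ N := by
    intro q hq
    obtain ⟨c, rfl⟩ := isConj_iff.1 (invol_isConj D h ht hq)
    exact hN.conj_mem t htN c
  have hmem : ∀ {m : ℕ} (hm : m ∈ s0L), mulN 0 m m = 0 → im D hm ∈ N := by
    intro m hm hsq
    by_cases h0 : m = 0
    · subst h0
      rw [show im D hm = 1 from (congrArg (qm (D.val 1)) (Subtype.ext D.val_zero :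
        (⟨D.val 0, S0_le_Cx D ⟨0, hm, rfl⟩⟩ : Cx (D.val 1)) = 1)).trans (map_one _)]
      exact one_mem N
    · exact hall _ (im_invol D hm hsq h0)
  have hle : ((sylX D h : Sylow 2 (CQ (D.val 1))) : Subgroup (CQ (D.val 1))) ≤ N := by
    intro q hq
    obtain ⟨m, hm, a, ha, rfl⟩ := exists_S0_lift D hq
    obtain ⟨c, hc, d, hd, hc2, hd2, e⟩ := s0_gen m hm
    rw [show qm (D.val 1) a = im D hm from congrArg _ (Subtype.ext ha),
      im_congr D hm (s0_mul c hc d hd) e.symm, ← im_mul D hc hd]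
    exact mul_mem (hmem hc hc2) (hmem hd hd2)
  have hnorm : normalizer (((sylX D h : Sylow 2 (CQ (D.val 1))) : Subgroup (CQ (D.val 1))) :
      Set (CQ (D.val 1))) ≤ N := by
    intro n hn
    have hzS : im D hz ∈ SX D := ⟨_, mem_subgroupOf.2 ⟨zN, hz, rfl⟩, rfl⟩
    have hfix : n * im D hz * n⁻¹ = im D hz := by
      obtain ⟨m, hm, a, ha, e⟩ := exists_S0_lift D ((mem_normalizer_iff.1 hn _).1 hzS)
      have e' : n * im D hz * n⁻¹ = im D hm := e.symm.trans (congrArg _ (Subtype.ext ha))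
      rw [e']
      refine im_congr D hm hz ((s0_center m hm fun b hb => ?_).resolve_left fun h0 => ?_)
      · have hzc : ∀ {k : ℕ} (hk : k ∈ s0L), im D hz * im D hk = im D hk * im D hz := by
          intro k hk
          rw [im_mul, im_mul]
          exact im_congr D _ _ (model_spec D.hk (cH_lt k (s0_sub k hk))).2.2.2.symm
        have hbS : im D hb ∈ SX D := ⟨_, mem_subgroupOf.2 ⟨b, hb, rfl⟩, rfl⟩
        obtain ⟨k, hk, a', ha', ek⟩ := exists_S0_lift D
          ((mem_normalizer_iff.1 (inv_mem hn) _).1 hbS)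
        have ek' : n⁻¹ * im D hb * n⁻¹⁻¹ = im D hk :=
          ek.symm.trans (congrArg _ (Subtype.ext ha'))
        refine im_inj D (s0_mul m hm b hb) (s0_mul b hb m hm) ?_
        rw [← im_mul D hm hb, ← im_mul D hb hm, ← e',
          show im D hb = n * im D hk * n⁻¹ by rw [← ek']; group, conj_mul, conj_mul, hzc hk]
      · rw [im_congr D hm (by decide : 0 ∈ s0L) h0] at e'
        have h1' : im D (by decide : 0 ∈ s0L) = 1 := (congrArg (qm (D.val 1))
          (Subtype.ext D.val_zero : (⟨D.val 0, S0_le_Cx D ⟨0, by decide, rfl⟩⟩ :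
            Cx (D.val 1)) = 1)).trans (map_one _)
        rw [h1', mul_inv_eq_one, mul_eq_left] at e'
        exact absurd (im_eq_one D hz e') (by decide)
    have hCle : SX D ≤ centralizer ({im D hz} : Set (CQ (D.val 1))) := fun q hq => by
      obtain ⟨k, hk, a, ha, rfl⟩ := exists_S0_lift D hq
      rw [show qm (D.val 1) a = im D hk from congrArg _ (Subtype.ext ha),
        mem_centralizer_singleton_iff, im_mul, im_mul]
      exact im_congr D _ _ (model_spec D.hk (cH_lt k (s0_sub k hk))).2.2.2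
    have hCS := Subgroup.eq_of_le_of_card_ge hCle (by
      rw [invol_cent D h (im_invol D hz hz2 (by decide)), card_SX])
    apply hle
    show n ∈ SX D
    rw [hCS, mem_centralizer_singleton_iff]
    exact mul_inv_eq_iff_eq_mul.1 hfix
  haveI := hN
  have := Sylow.normalizer_sup_eq_top' (sylX D h) hle
  exact eq_top_iff.2 (this ▸ sup_le hnorm le_rfl)

theorem quot_noncomm : ∃ a b : CQ (D.val 1), a * b ≠ b * a := by
  obtain ⟨⟨h1, h9, hne⟩, -⟩ := s0_noncomm
  refine ⟨im D h1, im D h9, fun e => hne ?_⟩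
  rw [im_mul, im_mul] at e
  exact im_inj D _ _ e

theorem card_quot (hG : Nat.card G = 4030387200) :
    Nat.card (CQ (D.val 1)) = 168 ∨ Nat.card (CQ (D.val 1)) = 360 := by
  haveI : Fact (Nat.Prime 2) := ⟨Nat.prime_two⟩
  haveI := quot_simple D h
  have h3 : Nat.card (CQ (D.val 1)) * 3 ∣ 4030387200 := by
    rw [← orderOf_valH D, card_CQ, ← hG]
    exact card_subgroup_dvd_card _
  have h8 : 8 ∣ Nat.card (CQ (D.val 1)) := card_SX D ▸ card_subgroup_dvd_card (SX D)
  have h16 : ¬ 16 ∣ Nat.card (CQ (D.val 1)) := fun hd => by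
    obtain ⟨P, hP⟩ := Sylow.exists_subgroup_card_pow_prime 2 (n := 4)
      (show 2 ^ 4 ∣ Nat.card (CQ (D.val 1)) from hd)
    have := card_two_group_le D h (IsPGroup.of_card hP)
    omega
  rcases known_of_cit (quot_noncomm D h) (cit D h) with ⟨⟨S, Dc, q, hS⟩, -⟩ | hodd | hl
  · exfalso
    obtain ⟨⟨h1, h9, hne⟩, h11, -⟩ := s0_noncomm
    let S' : Sylow 2 (CQ (D.val 1)) := ⟨S, hS.isP, fun {Q} hQ hle => hS.maxP Q hQ hle⟩
    obtain ⟨c, hc⟩ := MulAction.exists_smul_eq (CQ (D.val 1)) (sylX D h) S'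
    have hin : ∀ {m : ℕ} (hm : m ∈ s0L), c * im D hm * c⁻¹ ∈ S := fun {m} hm => by
      have h1' := Subgroup.smul_mem_pointwise_smul (im D hm) (MulAut.conj c)
        (sylX D h : Subgroup (CQ (D.val 1))) ⟨_, mem_subgroupOf.2 ⟨m, hm, rfl⟩, rfl⟩
      rw [← Sylow.coe_subgroup_smul, hc] at h1'
      exact h1'
    have ho := im_invol D h1 h11 (by decide)
    have := hS.central _ (hin h1) (by
      rw [conj_mul, ← _root_.sq, ← ho, pow_orderOf_eq_one]; group) _ (hin h9)
    rw [conj_mul, conj_mul, mul_left_inj, mul_right_inj, im_mul, im_mul] at this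
    exact hne (im_inj D _ _ this).symm
  · obtain ⟨⟨F, iF, jF, hF, ⟨e⟩⟩, -⟩ := hodd
    have hc : Nat.card (CQ (D.val 1)) = Fintype.card F * (Fintype.card F ^ 2 - 1) /
        Nat.gcd 2 (Fintype.card F - 1) := by
      rw [Nat.card_congr e.toEquiv, Classical.card_PSL_two, Nat.card_eq_fintype_card]
    rcases hF with h9 | ⟨hp, -⟩
    · right
      rw [hc, h9]
      rfl
    · have hdvd : Fintype.card F ∣ 4030387200 := by
        refine dvd_trans ?_ ((dvd_mul_right _ _).trans h3)
        have := Classical.card_PSL_two_mul (F := F)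
        rw [← Nat.card_congr e.toEquiv, Nat.card_eq_fintype_card] at this
        rcases hp.eq_two_or_odd' with h2 | hodd'
        · exfalso
          rw [hc, h2] at h8
          norm_num at h8
        · rw [Nat.card_eq_fintype_card.symm, Classical.gcd_two_card_sub_one_of_odd
            (by rwa [Nat.card_eq_fintype_card])] at this
          exact (Nat.Coprime.dvd_of_dvd_mul_left
            (Nat.coprime_two_right.2 (by rwa [Nat.card_eq_fintype_card]))
            ⟨_, this⟩ : Nat.card F ∣ _) |> fun x => by rwa [Nat.card_eq_fintype_card] at x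
      have hfac : (4030387200 : ℕ) = 2 ^ 10 * 3 ^ 3 * 5 ^ 2 * 7 ^ 3 * 17 := by norm_num
      rw [hfac] at hdvd
      have hcases : Fintype.card F = 2 ∨ Fintype.card F = 3 ∨ Fintype.card F = 5 ∨
          Fintype.card F = 7 ∨ Fintype.card F = 17 := by
        rcases (Nat.Prime.dvd_mul hp).1 hdvd with hd | hd
        · rcases (Nat.Prime.dvd_mul hp).1 hd with hd | hd
          · rcases (Nat.Prime.dvd_mul hp).1 hd with hd | hd
            · rcases (Nat.Prime.dvd_mul hp).1 hd with hd | hd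
              · exact Or.inl ((Nat.prime_dvd_prime_iff_eq hp Nat.prime_two).1 (hp.dvd_of_dvd_pow hd))
              · exact Or.inr (Or.inl
                  ((Nat.prime_dvd_prime_iff_eq hp Nat.prime_three).1 (hp.dvd_of_dvd_pow hd)))
            · exact Or.inr (Or.inr (Or.inl
                ((Nat.prime_dvd_prime_iff_eq hp Nat.prime_five).1 (hp.dvd_of_dvd_pow hd))))
          · exact Or.inr (Or.inr (Or.inr (Or.inl
              ((Nat.prime_dvd_prime_iff_eq hp (by norm_num)).1 (hp.dvd_of_dvd_pow hd)))))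
        · exact Or.inr (Or.inr (Or.inr (Or.inr
            ((Nat.prime_dvd_prime_iff_eq hp (by norm_num)).1 hd))))
      rw [hc] at h8 h16 ⊢
      rcases hcases with e | e | e | e | e <;> rw [e] at h8 h16 ⊢
      all_goals first
        | (exfalso; norm_num at h8; done)
        | (exfalso; norm_num at h16; done)
        | norm_num
  · exfalso
    obtain ⟨F, iF, jF, hF, ⟨e⟩⟩ := hl
    refine h16 ?_
    rw [Nat.card_congr e.toEquiv, Classical.card_PSL_fin 3 (by norm_num), Classical.card_SL_fin',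
      Nat.card_eq_fintype_card, hF]
    norm_num [Finset.prod_range_succ]

end CfsgLib.Spor.HeRecog.SixFalse
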