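import Mathlib

/-!
# General lemmas for the exclusion of the unfused configuration of the Held recognition

The centraliser of an element modulo the group it generates, free actions, and fixed points of
automorphisms of prime order of small groups.
-/

set_option autoImplicit false
set_option linter.unusedSectionVars false
set_option linter.style.haveILetI false

namespace CfsgLib.Spor.HeRecog.SixFalse

open Subgroup

universe u

variable {G : Type u} [Group G]

/-- the centraliser of an element -/
abbrev Cx (x : G) : Subgroup G := centralizer ({x} : Set G)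

theorem mem_Cx {x w : G} : w ∈ Cx x ↔ w * x = x * w := mem_centralizer_singleton_iff

theorem mem_cent_pair {x y w : G} :
    w ∈ centralizer ({x, y} : Set G) ↔ w * x = x * w ∧ w * y = y * w := by
  rw [mem_centralizer_iff]
  simp only [Set.mem_insert_iff, Set.mem_singleton_iff, forall_eq_or_imp, forall_eq]
  exact ⟨fun h => ⟨h.1.symm, h.2.symm⟩, fun h => ⟨h.1.symm, h.2.symm⟩⟩

instance czNormal (x : G) : ((zpowers x).subgroupOf (Cx x)).Normal := by
  refine ⟨fun n hn c => ?_⟩
  rw [mem_subgroupOf] at hn ⊢
  obtain ⟨i, hi⟩ := Subgroup.mem_zpowers_iff.1 hn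
  refine Subgroup.mem_zpowers_iff.2 ⟨i, ?_⟩
  have hc : Commute (c : G) (x ^ i) := Commute.zpow_right (mem_Cx.1 c.2) i
  rw [Subgroup.coe_mul, Subgroup.coe_mul, Subgroup.coe_inv, ← hi, hc.eq, mul_inv_cancel_right]

/-- the centraliser of `x` modulo the group generated by `x` -/
abbrev CQ (x : G) : Type u := (Cx x) ⧸ (zpowers x).subgroupOf (Cx x)

/-- the projection to `CQ x` -/
abbrev qm (x : G) : Cx x →* CQ x := QuotientGroup.mk' _

theorem qm_surjective (x : G) : Function.Surjective (qm x) := QuotientGroup.mk'_surjective _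

theorem qm_eq_one {x : G} {c : Cx x} : qm x c = 1 ↔ (c : G) ∈ zpowers x := by
  rw [QuotientGroup.mk'_apply, QuotientGroup.eq_one_iff, mem_subgroupOf]

theorem qm_eq_iff {x : G} {a b : Cx x} : qm x a = qm x b ↔ (a : G)⁻¹ * b ∈ zpowers x := by
  rw [QuotientGroup.mk'_apply, QuotientGroup.mk'_apply, QuotientGroup.eq, mem_subgroupOf,
    Subgroup.coe_mul, Subgroup.coe_inv]

variable [Finite G]

/-- a member of the powers of `x` is a natural power below its order -/
theorem exists_pow_of_mem {x y : G} (h : y ∈ zpowers x) : ∃ i < orderOf x, y = x ^ i := by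
  classical
  obtain ⟨i, hi, e⟩ := Finset.mem_image.1 (mem_zpowers_iff_mem_range_orderOf.1 h)
  exact ⟨i, Finset.mem_range.1 hi, e.symm⟩

theorem card_CQ (x : G) : Nat.card (CQ x) * orderOf x = Nat.card (Cx x) := by
  rw [← Nat.card_zpowers x, ← Nat.card_congr (subgroupOfEquivOfLe
    (show zpowers x ≤ Cx x from zpowers_le.2 (mem_Cx.2 rfl))).toEquiv,
    ← Subgroup.card_eq_card_quotient_mul_card_subgroup]

theorem orderOf_qm_dvd {x : G} (c : Cx x) : orderOf (qm x c) ∣ orderOf (c : G) := by
  rw [Subgroup.orderOf_coe]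
  exact orderOf_map_dvd _ _

/-- elements whose images commute differ by a power of `x` under conjugation -/
theorem conj_eq_of_commute {x : G} {a b : Cx x} (h : qm x a * qm x b = qm x b * qm x a) :
    ∃ i < orderOf x, (a : G) * b * (a : G)⁻¹ = b * x ^ i := by
  rw [← map_mul, ← map_mul, eq_comm, qm_eq_iff] at h
  obtain ⟨i, hi, e⟩ := exists_pow_of_mem h
  refine ⟨i, hi, ?_⟩
  have hc : (a : G) * x ^ i = x ^ i * a := (Commute.pow_right (mem_Cx.1 a.2) i).eq
  rw [Subgroup.coe_mul, Subgroup.coe_mul] at e
  have e' : (a : G) * b = b * a * x ^ i := by rw [← e]; group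
  rw [e', mul_assoc (b : G), hc, ← mul_assoc, mul_inv_cancel_right]

/-- the image of a subgroup containing `x` -/
theorem card_map_qm {x : G} {A : Subgroup G} (hA : A ≤ Cx x) (hx : x ∈ A) :
    Nat.card ((A.subgroupOf (Cx x)).map (qm x)) * orderOf x = Nat.card A := by
  set B := A.subgroupOf (Cx x)
  have hker : (zpowers x).subgroupOf (Cx x) ≤ B := fun c hc =>
    mem_subgroupOf.2 (zpowers_le.2 hx (mem_subgroupOf.1 hc))
  have h1 : ((qm x).comp B.subtype).ker.index = Nat.card (B.map (qm x)) := by
    rw [index_ker, MonoidHom.range_comp, Subgroup.range_subtype]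
  have h2 : Nat.card ((qm x).comp B.subtype).ker = orderOf x := by
    rw [show ((qm x).comp B.subtype).ker = (qm x).ker.subgroupOf B from rfl,
      QuotientGroup.ker_mk', Nat.card_congr
      (subgroupOfEquivOfLe hker).toEquiv, Nat.card_congr (subgroupOfEquivOfLe
      (show zpowers x ≤ Cx x from zpowers_le.2 (mem_Cx.2 rfl))).toEquiv, Nat.card_zpowers]
  have h3 := ((qm x).comp B.subtype).ker.card_mul_index
  rw [h1, h2, Nat.card_congr (subgroupOfEquivOfLe hA).toEquiv] at h3
  rw [mul_comm]
  exact h3

/-- If every element whose image commutes with that of `b` commutes with `b`, the centraliser of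
the image of `b` is the image of the centraliser of `x` and `b`. -/
theorem centralizer_qm {x : G} {b : Cx x}
    (h : ∀ (a : Cx x) (i : ℕ), i < orderOf x → (a : G) * b * (a : G)⁻¹ = b * x ^ i →
      (a : G) * b = b * a) :
    centralizer ({qm x b} : Set (CQ x)) =
      ((centralizer ({x, (b : G)} : Set G)).subgroupOf (Cx x)).map (qm x) := by
  refine le_antisymm (fun q hq => ?_) ?_
  · obtain ⟨a, rfl⟩ := qm_surjective x q
    obtain ⟨i, hi, e⟩ := conj_eq_of_commute (mem_centralizer_singleton_iff.1 hq)
    exact ⟨a, mem_subgroupOf.2 (mem_cent_pair.2 ⟨mem_Cx.1 a.2, h a i hi e⟩), rfl⟩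
  · rintro q ⟨a, ha, rfl⟩
    refine mem_centralizer_singleton_iff.2 ?_
    rw [← map_mul, ← map_mul]
    exact congrArg _ (Subtype.ext (mem_cent_pair.1 (mem_subgroupOf.1 ha)).2)

/-- If every element whose image commutes with that of `b` commutes with `b`, the centraliser of
the image has order `|C(x,b)| / |x|`. -/
theorem card_centralizer_qm {x : G} {b : Cx x}
    (h : ∀ (a : Cx x) (i : ℕ), i < orderOf x → (a : G) * b * (a : G)⁻¹ = b * x ^ i →
      (a : G) * b = b * a) :
    Nat.card (centralizer ({qm x b} : Set (CQ x))) * orderOf x =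
      Nat.card (centralizer ({x, (b : G)} : Set G)) := by
  rw [centralizer_qm h]
  exact card_map_qm (fun w hw => mem_Cx.2 (mem_cent_pair.1 hw).1)
    (mem_cent_pair.2 ⟨rfl, (mem_Cx.1 b.2).symm⟩)

omit [Finite G] in
/-- the conjugation action of a group stabilises `1` only trivially: free actions -/
theorem dvd_card_of_free {T α : Type*} [Group T] [MulAction T α] [Finite α] [Finite T]
    (hf : ∀ (a : α) (t : T), t • a = a → t = 1) : Nat.card T ∣ Nat.card α := by
  classical
  haveI : Fintype (Quotient (MulAction.orbitRel T α)) := Fintype.ofFinite _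
  rw [Nat.card_congr (MulAction.selfEquivSigmaOrbitsQuotientStabilizer T α), Nat.card_sigma]
  refine Finset.dvd_sum fun ω _ => dvd_of_eq ?_
  rw [show MulAction.stabilizer T ω.out = ⊥ from
    (Subgroup.eq_bot_iff_forall _).2 fun t ht => hf _ t ht]
  exact (Nat.card_congr (QuotientGroup.quotientBot (G := T)).toEquiv).symm

/-- An element of prime order five, seven or seventeen normalising a group of order 27 centralises
it. -/
theorem mem_centralizer_of_norm {P : Subgroup G} (hP : Nat.card P = 27) {y : G} {q : ℕ}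
    (hq : q = 5 ∨ q = 7 ∨ q = 17) (hy : y ^ q = 1) (hn : ∀ a, a ∈ P ↔ y * a * y⁻¹ ∈ P) :
    y ∈ centralizer (P : Set G) := by
  haveI : Fact q.Prime := ⟨by rcases hq with rfl | rfl | rfl <;> norm_num⟩
  have hyn : y ∈ normalizer (P : Set G) := mem_normalizer_iff.2 hn
  have hA : IsPGroup q (zpowers y) := by
    have hd : orderOf y ∣ q := orderOf_dvd_of_pow_eq_one hy
    rcases (Nat.dvd_prime Fact.out).1 hd with h | h
    · exact IsPGroup.of_card (n := 0) (by rw [Nat.card_zpowers, h, pow_zero])
    · exact IsPGroup.of_card (n := 1) (by rw [Nat.card_zpowers, h, pow_one])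
  let F : Subgroup P := (centralizer ({y} : Set G)).subgroupOf P
  letI : MulAction (zpowers y) P :=
    { smul := fun t a => ⟨(t : G) * a * (t : G)⁻¹,
        (mem_normalizer_iff.1 (zpowers_le.2 hyn t.2) a).1 a.2⟩
      one_smul := fun a => Subtype.ext (by
        show ((1 : zpowers y) : G) * (a : G) * ((1 : zpowers y) : G)⁻¹ = a
        simp)
      mul_smul := fun s t a => Subtype.ext (by
        show ((s * t : zpowers y) : G) * (a : G) * ((s * t : zpowers y) : G)⁻¹ =
          (s : G) * ((t : G) * a * (t : G)⁻¹) * (s : G)⁻¹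
        rw [Subgroup.coe_mul]
        group) }
  have hfix : ∀ a : P, a ∈ MulAction.fixedPoints (zpowers y) P ↔ a ∈ F := by
    intro a
    rw [MulAction.mem_fixedPoints]
    refine ⟨fun h => ?_, fun h t => ?_⟩
    · have e : y * (a : G) * y⁻¹ = a := congrArg Subtype.val (h ⟨y, mem_zpowers y⟩)
      exact mem_subgroupOf.2 (mem_centralizer_singleton_iff.2 (mul_inv_eq_iff_eq_mul.1 e).symm)
    · obtain ⟨i, hi⟩ := Subgroup.mem_zpowers_iff.1 t.2
      have e : Commute ((t : G)) (a : G) := hi ▸
        (Commute.symm (mem_centralizer_singleton_iff.1 (mem_subgroupOf.1 h))).zpow_left i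
      refine Subtype.ext ?_
      show (t : G) * a * (t : G)⁻¹ = a
      rw [e.eq, mul_inv_cancel_right]
  have hmod : Nat.card P ≡ Nat.card F [MOD q] := by
    have := hA.card_modEq_card_fixedPoints P
    rwa [Nat.card_congr (Equiv.subtypeEquivRight hfix)] at this
  have hd : Nat.card F ∣ 3 ^ 3 := by
    have := card_subgroup_dvd_card F
    rwa [hP] at this
  obtain ⟨k, hk, hk'⟩ := (Nat.dvd_prime_pow Nat.prime_three).1 hd
  rw [hP, hk'] at hmod
  have : Nat.card F = Nat.card P := by
    rw [hP, hk']
    rcases hq with rfl | rfl | rfl <;> interval_cases k <;> simp only [Nat.ModEq] at hmod <;>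
      norm_num at hmod <;> norm_num
  have htop := Subgroup.eq_top_of_card_eq F this
  refine mem_centralizer_iff.2 fun a ha => ?_
  have h' : (⟨a, ha⟩ : P) ∈ F := htop ▸ mem_top _
  exact mem_centralizer_singleton_iff.1 (mem_subgroupOf.1 h')

end CfsgLib.Spor.HeRecog.SixFalse
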