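import Cfsg.Agent.Lib.Spor.HeRecog.SixFalse.Lemmas
import Cfsg.Agent.Lib.Spor.HeRecog.Interface

/-!
# The centraliser of the element of order seven

`C(f)/⟨f⟩` has a self-centralising involution, so an inverted normal subgroup of index two, which
`h` lies in; hence `h` centralises a subgroup of order divisible by 49.
-/

set_option autoImplicit false
set_option linter.unusedSectionVars false
set_option linter.style.haveILetI false
set_option maxRecDepth 100000

namespace CfsgLib.Spor.HeRecog.SixFalse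

open Subgroup

universe u

/-- the powers of `fN` and their products with the central involution -/
def cF : List Nat :=
  [0, 3, 6, 9, 12, 15, 18, 10752, 10755, 10758, 10761, 10764, 10767, 10770]

theorem cF_check : allEls (fun m =>
    !(Nat.beq (mulN 0 m 3) (mulN 0 3 m)) || cF.any (Nat.beq m)) = true := by decide +kernel

theorem cF_form : ∀ m ∈ cF, ∃ j, j < 7 ∧ (powN 0 3 j = m ∨ mulN 0 (powN 0 3 j) zN = m) := by
  decide +kernel

theorem fN_seven : powN 0 3 7 = 0 := by decide +kernel

variable {G : Type u} [Group G] [Finite G] {z : G} (D : Cen 0 z)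
include D

theorem orderOf_valF : orderOf (D.val 3) = 7 := by
  haveI : Fact (Nat.Prime 7) := ⟨by norm_num⟩
  refine orderOf_eq_prime ?_ fun e => absurd (D.val_eq_one (by norm_num) e) (by norm_num)
  rw [← D.val_pow (by norm_num), fN_seven, D.val_zero]

theorem cent_valF {w : G} (hz : w * z = z * w) (hF : w * D.val 3 = D.val 3 * w) :
    ∃ j : ℕ, w = D.val 3 ^ j ∨ w = D.val 3 ^ j * z := by
  obtain ⟨m, hm, rfl⟩ := D.val_surj w hz
  have h1 := D.mul_val_eq hm (by norm_num) hF
  have h2 := allEls_spec cF_check m hm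
  rw [show Nat.beq (mulN 0 m 3) (mulN 0 3 m) = true by rw [h1]; exact Nat.beq_refl _,
    Bool.not_true, Bool.false_or, List.any_eq_true] at h2
  obtain ⟨c, hc, e⟩ := h2
  obtain ⟨j, -, hj | hj⟩ := cF_form c hc
  · exact ⟨j, Or.inl (by rw [← D.val_pow (by norm_num), hj, Nat.eq_of_beq_eq_true e])⟩
  · exact ⟨j, Or.inr (calc
      D.val m = D.val (mulN 0 (powN 0 3 j) zN) := by rw [hj, Nat.eq_of_beq_eq_true e]
      _ = D.val (powN 0 3 j) * D.val zN := D.val_mul _ _ (powN_lt 0 (by norm_num) j) (by norm_num [zN])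
      _ = D.val 3 ^ j * z := by rw [D.val_pow (by norm_num), D.val_z])⟩

/-- The centraliser of an element of order seven and a commuting conjugate of `z`. -/
theorem cent_seven {f s : G} (hf : orderOf f = 7) (hfs : s * f = f * s) (hs : IsConj s z)
    {w : G} (hwf : w * f = f * w) (hws : w * s = s * w) :
    w ∈ zpowers f ∨ w * s ∈ zpowers f := by
  haveI : Fact (Nat.Prime 7) := ⟨by norm_num⟩
  obtain ⟨x, hx⟩ := isConj_iff.1 hs
  have hfz : (x * f * x⁻¹) * z = z * (x * f * x⁻¹) := by
    rw [← hx, conj_mul, conj_mul, hfs]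
  set C := Cx z with hC
  have hcard : Nat.card C = 21504 := D.card_cent
  let a : C := ⟨x * f * x⁻¹, mem_Cx.2 hfz⟩
  let b : C := ⟨D.val 3, mem_Cx.2 (D.val_comm 3 (by norm_num))⟩
  have hsyl : ∀ c : C, orderOf (c : G) = 7 →
      Nat.card (zpowers c) = 7 ^ (Nat.card C).factorization 7 := by
    intro c hc
    rw [Nat.card_zpowers, ← Subgroup.orderOf_coe, hc, hcard]
    have : (21504 : ℕ).factorization 7 = 1 := by
      rw [Nat.factorization_def _ (by norm_num : Nat.Prime 7),
        show (21504 : ℕ) = 7 * 3072 by norm_num, padicValNat.mul (by norm_num) (by norm_num),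
        padicValNat.self (by norm_num), padicValNat.eq_zero_of_not_dvd (by norm_num)]
    rw [this, pow_one]
  have hxf : orderOf (x * f * x⁻¹) = 7 := by
    rw [show x * f * x⁻¹ = MulAut.conj x f from rfl, MulEquiv.orderOf_eq, hf]
  obtain ⟨c, hc⟩ := MulAction.exists_smul_eq C (Sylow.ofCard (zpowers a) (hsyl a hxf))
    (Sylow.ofCard (zpowers b) (hsyl b (orderOf_valF D)))
  have hcb : c * a * c⁻¹ ∈ zpowers b := by
    have := congrArg (fun P : Sylow 7 C => (P : Subgroup C)) hc
    simp only [Sylow.coe_subgroup_smul, Sylow.coe_ofCard] at this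
    rw [← this]
    exact Subgroup.smul_mem_pointwise_smul a (MulAut.conj c) _ (mem_zpowers a)
  obtain ⟨y, hy⟩ : ∃ y, y = (c : G) * x := ⟨_, rfl⟩
  have hys : y * s * y⁻¹ = z := by
    rw [hy, show (c : G) * x * s * ((c : G) * x)⁻¹ = c * (x * s * x⁻¹) * (c : G)⁻¹ by group, hx,
      mem_Cx.1 c.2, mul_inv_cancel_right]
  obtain ⟨i, hi⟩ := Subgroup.mem_zpowers_iff.1 hcb
  have hyf : D.val 3 ^ i = y * f * y⁻¹ := by
    have := congrArg Subtype.val hi
    rw [Subgroup.coe_zpow] at this
    rw [hy]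
    refine this.trans ?_
    show (c : G) * (x * f * x⁻¹) * (c : G)⁻¹ = _
    group
  have hzp : zpowers (y * f * y⁻¹) = zpowers (D.val 3) := by
    refine Subgroup.eq_of_le_of_card_ge (zpowers_le.2 ⟨i, hyf⟩) (le_of_eq ?_)
    rw [Nat.card_zpowers, Nat.card_zpowers, orderOf_valF,
      show y * f * y⁻¹ = MulAut.conj y f from rfl, MulEquiv.orderOf_eq, hf]
  have hwz : (y * w * y⁻¹) * z = z * (y * w * y⁻¹) := by
    rw [← hys, conj_mul, conj_mul, hws]
  have hwF : (y * w * y⁻¹) * D.val 3 = D.val 3 * (y * w * y⁻¹) := by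
    obtain ⟨k, hk⟩ := Subgroup.mem_zpowers_iff.1 (hzp ▸ mem_zpowers (D.val 3))
    rw [← hk]
    exact Commute.zpow_right (show Commute (y * w * y⁻¹) (y * f * y⁻¹) from by
      rw [Commute, SemiconjBy, conj_mul, conj_mul, hwf]) k
  have hback : ∀ v : G, y * v * y⁻¹ ∈ zpowers (D.val 3) → v ∈ zpowers f := by
    intro v hv
    rw [← hzp] at hv
    obtain ⟨k, hk⟩ := Subgroup.mem_zpowers_iff.1 hv
    rw [conj_zpow] at hk
    exact ⟨k, by simpa using hk⟩
  obtain ⟨j, hj | hj⟩ := cent_valF D hwz hwF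
  · exact Or.inl (hback _ (hj ▸ pow_mem (mem_zpowers _) _))
  · refine Or.inr (hback _ ?_)
    rw [show y * (w * s) * y⁻¹ = (y * w * y⁻¹) * (y * s * y⁻¹) by group, hys, hj, mul_assoc,
      D.zz, mul_one]
    exact pow_mem (mem_zpowers _) _

omit D [Finite G] in
/-- A group with a self-centralising involution has an inverted normal subgroup of index two. -/
theorem exists_inverted {Q : Type*} [Group Q] [Finite Q] {t : Q} (ht : orderOf t = 2)
    (hc : ∀ q : Q, q * t = t * q → q = 1 ∨ q = t) :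
    ∃ R : Subgroup Q, R.index = 2 ∧ ∀ a ∈ R, ∀ b ∈ R, a * b = b * a := by
  haveI : Fact (Nat.Prime 2) := ⟨Nat.prime_two⟩
  obtain ⟨S, hS⟩ := (IsPGroup.of_card (p := 2) (n := 1)
    (show Nat.card (zpowers t) = 2 ^ 1 by rw [Nat.card_zpowers, ht, pow_one])).exists_le_sylow
  have htS : t ∈ (S : Subgroup Q) := hS (mem_zpowers t)
  have hone : ∀ q, q = 1 ∨ q = t → q ∈ zpowers t := by
    rintro q (rfl | rfl)
    exacts [one_mem _, mem_zpowers _]
  haveI : Nontrivial (S : Subgroup Q) := ⟨⟨t, htS⟩, 1, fun e => by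
    rw [show t = 1 from congrArg Subtype.val e, orderOf_one] at ht
    omega⟩
  haveI := S.isPGroup'.center_nontrivial
  obtain ⟨⟨a, ha⟩, ha1⟩ := exists_ne (1 : center (S : Subgroup Q))
  have hat : (a : Q) = t := by
    refine (hc _ (congrArg Subtype.val (mem_center_iff.1 ha ⟨t, htS⟩)).symm).resolve_left
      fun e => ha1 ?_
    exact Subtype.ext (Subtype.ext e)
  have hSt : (S : Subgroup Q) ≤ zpowers t := fun q hq => hone q (hc q (by
    rw [← hat]
    exact congrArg Subtype.val (mem_center_iff.1 ha ⟨q, hq⟩)))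
  have hSeq : (S : Subgroup Q) = zpowers t := le_antisymm hSt hS
  have hle : normalizer ((S : Subgroup Q) : Set Q) ≤ centralizer ((S : Subgroup Q) : Set Q) := by
    intro n hn
    have hcomm : n * t = t * n := by
      have h1 := hSt ((mem_normalizer_iff.1 hn t).1 htS)
      obtain ⟨i, hi, e⟩ := exists_pow_of_mem h1
      rw [ht] at hi
      interval_cases i
      · rw [pow_zero, mul_inv_eq_one] at e
        rw [mul_eq_left.1 e, orderOf_one] at ht
        omega
      · rw [pow_one] at e
        exact mul_inv_eq_iff_eq_mul.1 e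
    refine mem_centralizer_iff.2 fun q hq => ?_
    obtain ⟨k, rfl⟩ := Subgroup.mem_zpowers_iff.1 (hSt hq)
    exact ((Commute.symm hcomm).zpow_left k).eq
  set R := (MonoidHom.transferSylow S hle).ker
  have hR := MonoidHom.ker_transferSylow_isComplement' S hle
  refine ⟨R, ?_, ?_⟩
  · rw [hR.symm.index_eq_card, hSeq, Nat.card_zpowers, ht]
  have hRn : R.Normal := inferInstance
  let φ : R →* R :=
    { toFun := fun r => ⟨t * r * t⁻¹, hRn.conj_mem r r.2 t⟩
      map_one' := Subtype.ext (show t * ((1 : R) : Q) * t⁻¹ = ((1 : R) : Q) by simp)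
      map_mul' := fun r r' => Subtype.ext (conj_mul.symm :
        t * ((r : Q) * r') * t⁻¹ = (t * r * t⁻¹) * (t * r' * t⁻¹)) }
  have hfpf : MonoidHom.FixedPointFree φ := by
    intro r hr
    have e : t * (r : Q) * t⁻¹ = r := congrArg Subtype.val hr
    rcases hc r (mul_inv_eq_iff_eq_mul.1 e).symm with h | h
    · exact Subtype.ext h
    · exfalso
      have hb := hR.disjoint.le_bot (show t ∈ R ⊓ (S : Subgroup Q) from ⟨h ▸ r.2, htS⟩)
      rw [show t = 1 from Subgroup.mem_bot.1 hb, orderOf_one] at ht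
      omega
  have hinv : Function.Involutive φ := fun r => Subtype.ext (by
    show t * (t * r * t⁻¹) * t⁻¹ = r
    rw [show t * (t * (r : Q) * t⁻¹) * t⁻¹ = t ^ 2 * r * (t ^ 2)⁻¹ by rw [_root_.sq, mul_inv_rev]; simp only [mul_assoc],
      show t ^ 2 = 1 by rw [← ht]; exact pow_orderOf_eq_one t, one_mul, inv_one, mul_one])
  exact fun a ha b hb => congrArg Subtype.val (hfpf.commute_all_of_involutive hinv ⟨a, ha⟩ ⟨b, hb⟩).eq

omit D in
/-- `p ^ 2` divides the order of the centraliser of an element of order `p`. -/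
theorem sq_dvd_card_Cx {p : ℕ} [Fact p.Prime] (hG : p ^ 2 ∣ Nat.card G) {x : G}
    (hx : orderOf x = p) : p ^ 2 ∣ Nat.card (Cx x) := by
  obtain ⟨P, hP⟩ := (IsPGroup.of_card (p := p) (n := 1)
    (show Nat.card (zpowers x) = p ^ 1 by rw [Nat.card_zpowers, hx, pow_one])).exists_le_sylow
  have hxP : x ∈ (P : Subgroup G) := hP (mem_zpowers x)
  let x' : (P : Subgroup G) := ⟨x, hxP⟩
  have hx' : orderOf x' = p := (Subgroup.orderOf_coe x').symm.trans hx
  haveI : Nontrivial (P : Subgroup G) := ⟨x', 1, fun e => by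
    rw [e, orderOf_one] at hx'
    exact (Fact.out : p.Prime).one_lt.ne hx'⟩
  set K := centralizer ({x'} : Set (P : Subgroup G))
  have hdiv : Nat.card K ∣ Nat.card (Cx x) := by
    rw [Nat.card_congr (K.equivMapOfInjective (P : Subgroup G).subtype
      Subtype.val_injective).toEquiv]
    refine card_dvd_of_le ?_
    rintro _ ⟨k, hk, rfl⟩
    exact mem_Cx.2 (congrArg Subtype.val (mem_centralizer_singleton_iff.1 hk))
  refine dvd_trans ?_ hdiv
  obtain ⟨n, hn⟩ := IsPGroup.iff_card.1 (P.isPGroup'.to_subgroup K)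
  rw [hn]
  refine pow_dvd_pow p ?_
  by_contra hlt
  have hxK : zpowers x' ≤ K := zpowers_le.2 (mem_centralizer_singleton_iff.2 rfl)
  have hKx : K = zpowers x' := (Subgroup.eq_of_le_of_card_ge hxK (by
    rw [hn, Nat.card_zpowers, hx']
    exact le_of_le_of_eq (Nat.pow_le_pow_right (Fact.out : p.Prime).pos (by omega)) (pow_one p))).symm
  have hZ : center (P : Subgroup G) ≤ zpowers x' := hKx ▸ fun a ha =>
    mem_centralizer_singleton_iff.2 (mem_center_iff.1 ha x').symm
  haveI := P.isPGroup'.center_nontrivial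
  have hZx : zpowers x' ≤ center (P : Subgroup G) := by
    have h1 := card_dvd_of_le hZ
    rw [Nat.card_zpowers, hx'] at h1
    have h2 := ((Nat.dvd_prime Fact.out).1 h1).resolve_left
      (Finite.one_lt_card_iff_nontrivial.2 inferInstance).ne'
    exact le_of_eq (Subgroup.eq_of_le_of_card_ge hZ (by rw [Nat.card_zpowers, hx', h2])).symm
  have hKtop : K = ⊤ := eq_top_iff.2 fun a _ =>
    mem_centralizer_singleton_iff.2 (mem_center_iff.1 (hZx (mem_zpowers x')) a)
  have hc := hKtop ▸ hn
  rw [Subgroup.card_top] at hc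
  have h2 : p ^ 2 ∣ p ^ n := by
    rw [← hc, P.card_eq_multiplicity]
    exact pow_dvd_pow p (((Fact.out : p.Prime).pow_dvd_iff_le_factorization
      Nat.card_pos.ne').1 hG)
  have := (Nat.pow_dvd_pow_iff_le_right (Fact.out : p.Prime).one_lt).1 h2
  omega

/-- `49` divides the order of the centraliser of an element of order three commuting with an
element of order seven that is centralised by a conjugate of `z`. -/
theorem dvd_card_Cx_three (hG : 7 ^ 2 ∣ Nat.card G) {f h s : G} (hf : orderOf f = 7)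
    (hh : orderOf h = 3) (hfh : f * h = h * f) (hsf : s * f = f * s) (hsz : IsConj s z) :
    49 ∣ Nat.card (Cx h) := by
  haveI : Fact (Nat.Prime 7) := ⟨by norm_num⟩
  have hs2 : orderOf s = 2 := by
    obtain ⟨x, hx⟩ := isConj_iff.1 hsz
    rw [← D.ord, ← hx, show x * s * x⁻¹ = MulAut.conj x s from rfl, MulEquiv.orderOf_eq]
  let sC : Cx f := ⟨s, mem_Cx.2 hsf⟩
  let hC : Cx f := ⟨h, mem_Cx.2 hfh.symm⟩
  have hsnot : s ∉ zpowers f := fun e => by
    have := orderOf_dvd_natCard (⟨s, e⟩ : zpowers f)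
    rw [Nat.card_zpowers, hf, ← Subgroup.orderOf_coe, hs2] at this
    norm_num at this
  have ht : orderOf (qm f sC) = 2 := by
    haveI : Fact (Nat.Prime 2) := ⟨Nat.prime_two⟩
    refine orderOf_eq_prime ?_ fun e => hsnot (qm_eq_one.1 e)
    rw [← map_pow, show sC ^ 2 = 1 from Subtype.ext (by
      rw [Subgroup.coe_pow, ← hs2, pow_orderOf_eq_one]; rfl), map_one]
  have hsc : ∀ q : CQ f, q * qm f sC = qm f sC * q → q = 1 ∨ q = qm f sC := by
    intro q hq
    obtain ⟨a, rfl⟩ := qm_surjective f q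
    obtain ⟨i, hi, e⟩ := conj_eq_of_commute hq
    rw [hf] at hi
    have hs2' : s ^ 2 = 1 := by rw [← hs2, pow_orderOf_eq_one]
    have h2 : (s * f ^ i) ^ 2 = 1 := by
      rw [← show (a : G) * s * (a : G)⁻¹ = s * f ^ i from e, conj_pow, hs2']
      group
    rw [(show Commute s (f ^ i) from Commute.pow_right hsf i).mul_pow, hs2', one_mul,
      ← pow_mul] at h2
    have hi0 : i = 0 := by
      have := orderOf_dvd_of_pow_eq_one h2
      rw [hf] at this
      omega
    subst hi0
    rw [pow_zero, mul_one] at e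
    have hws : (a : G) * s = s * a := mul_inv_eq_iff_eq_mul.1 e
    rcases cent_seven D hf hsf hsz (mem_Cx.1 a.2) hws with h1 | h1
    · exact Or.inl (qm_eq_one.2 h1)
    · refine Or.inr (qm_eq_iff.2 ?_)
      show (a : G)⁻¹ * s ∈ zpowers f
      rw [show (a : G)⁻¹ * s = ((a : G) * s)⁻¹ * (s ^ 2) by
        rw [hws, _root_.sq]; group]
      rw [hs2', mul_one]
      exact inv_mem h1
  obtain ⟨R, hR2, hRab⟩ := exists_inverted ht hsc
  haveI : R.Normal := normal_of_index_eq_two hR2
  have hhR : qm f hC ∈ R := by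
    have h3 : qm f hC ^ 4 = qm f hC := by
      rw [← map_pow, show hC ^ 4 = hC from Subtype.ext (by
        rw [Subgroup.coe_pow, show (4 : ℕ) = orderOf h + 1 by rw [hh], pow_succ,
          pow_orderOf_eq_one, one_mul])]
    rw [← h3, show qm f hC ^ 4 = (qm f hC ^ 2) ^ 2 by rw [← pow_mul]]
    exact sq_mem_of_index_two hR2 _
  set R' := R.comap (qm f)
  have hle : R'.map (Cx f).subtype ≤ Cx h := by
    rintro _ ⟨a, ha, rfl⟩
    obtain ⟨i, hi, e⟩ := conj_eq_of_commute (a := hC) (b := a) (hRab _ hhR _ ha)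
    rw [hf] at hi
    have e' : h * (a : G) * h⁻¹ = a * f ^ i := e
    have hci : h * f ^ i = f ^ i * h := Commute.pow_right hfh.symm i
    have hk : ∀ k : ℕ, h ^ k * (a : G) * (h ^ k)⁻¹ = a * f ^ (i * k) := by
      intro k
      induction k with
      | zero => simp
      | succ k ih =>
        rw [pow_succ', show h * h ^ k * (a : G) * (h * h ^ k)⁻¹ =
          h * (h ^ k * (a : G) * (h ^ k)⁻¹) * h⁻¹ by group, ih,
          show h * ((a : G) * f ^ (i * k)) * h⁻¹ =
            (h * (a : G) * h⁻¹) * (h * f ^ (i * k) * h⁻¹) by group, e',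
          (show h * f ^ (i * k) = f ^ (i * k) * h from Commute.pow_right hfh.symm _),
          mul_inv_cancel_right, mul_assoc, ← pow_add]
        congr 2
        ring
    have h3 := hk 3
    rw [← hh, pow_orderOf_eq_one, hh] at h3
    simp only [one_mul, inv_one, mul_one, left_eq_mul] at h3
    have := orderOf_dvd_of_pow_eq_one h3
    rw [hf] at this
    have hi0 : i = 0 := by omega
    rw [hi0, pow_zero, mul_one] at e'
    exact mem_Cx.2 (mul_inv_eq_iff_eq_mul.1 e').symm
  refine dvd_trans ?_ (card_dvd_of_le hle)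
  rw [Nat.card_congr (R'.equivMapOfInjective (Cx f).subtype Subtype.val_injective).toEquiv.symm]
  have hidx : R'.index = 2 := by
    rw [index_comap_of_surjective _ (qm_surjective f), hR2]
  have h49 : 7 ^ 2 ∣ Nat.card R' * 2 := by
    have h1 := sq_dvd_card_Cx hG hf
    rwa [← R'.card_mul_index, hidx] at h1
  exact (Nat.Coprime.dvd_of_dvd_mul_right (by norm_num) h49)

end CfsgLib.Spor.HeRecog.SixFalse
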